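import Mathlib.GroupTheory.Transfer
import Mathlib.GroupTheory.Complement

/-!
# Transfer of an element whose moving orbits contribute nothing
-/

set_option autoImplicit false

namespace CfsgLib.Yoshida

open MulAction Subgroup

variable {G : Type*} [Group G] {H : Subgroup G} {A : Type*} [CommGroup A] (φ : H →* A)

/-- Extension of a homomorphism by `1`. -/
noncomputable def extOne (g : G) : A := by
  classical exact if h : g ∈ H then φ ⟨g, h⟩ else 1

theorem extOne_of_mem {g : G} (h : g ∈ H) : extOne φ g = φ ⟨g, h⟩ := dif_pos h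

theorem extOne_of_not_mem {g : G} (h : g ∉ H) : extOne φ g = 1 := dif_neg h

theorem extOne_conj {r : G} (hr : r ∈ H) (g : G) : extOne φ (r⁻¹ * g * r) = extOne φ g := by
  by_cases h : g ∈ H
  · rw [extOne_of_mem φ h, extOne_of_mem φ (mul_mem (mul_mem (inv_mem hr) h) hr)]
    have e : (⟨r⁻¹ * g * r, mul_mem (mul_mem (inv_mem hr) h) hr⟩ : H) =
        (⟨r, hr⟩ : H)⁻¹ * ⟨g, h⟩ * ⟨r, hr⟩ := rfl
    rw [e, map_mul, map_mul, map_inv, mul_comm, mul_inv_cancel_left]
  · rw [extOne_of_not_mem φ h, extOne_of_not_mem φ]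
    intro h2
    refine h ?_
    have := mul_mem (mul_mem hr h2) (inv_mem hr)
    simpa [mul_assoc] using this

theorem extOne_coset_congr {s t : G} (h : (s : G ⧸ H) = t) (z : G) :
    extOne φ (s⁻¹ * z * s) = extOne φ (t⁻¹ * z * t) := by
  obtain ⟨r, hr, rfl⟩ : ∃ r ∈ H, t = s * r :=
    ⟨s⁻¹ * t, QuotientGroup.eq.1 h, (mul_inv_cancel_left s t).symm⟩
  rw [← extOne_conj φ hr (s⁻¹ * z * s)]
  congr 1
  simp [mul_assoc]

theorem extOne_out (t z : G) :
    extOne φ ((t : G ⧸ H).out⁻¹ * z * (t : G ⧸ H).out) = extOne φ (t⁻¹ * z * t) :=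
  extOne_coset_congr φ (QuotientGroup.out_eq' _) z

/-- If every coset moved by `z` contributes trivially to the transfer, the transfer is the product
over the fixed cosets. -/
theorem transfer_eq_prod_extOne [H.FiniteIndex] [Fintype (G ⧸ H)] (z : G)
    (hmov : ∀ t : G, t⁻¹ * z * t ∉ H → ∀ (n : ℕ) (h : t⁻¹ * z ^ n * t ∈ H), φ ⟨_, h⟩ = 1) :
    MonoidHom.transfer φ z = ∏ q : G ⧸ H, extOne φ (q.out⁻¹ * z * q.out) := by
  classical
  rw [MonoidHom.transfer_eq_prod_quotient_orbitRel_zpowers_quot,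
    ← (quotientEquivSigmaZMod H z).symm.prod_comp, Fintype.prod_sigma]
  refine Finset.prod_congr rfl fun q _ => ?_
  set t₀ := q.out.out with ht₀
  have hk : ∀ k : ZMod (Function.minimalPeriod (z • ·) q.out),
      extOne φ (((quotientEquivSigmaZMod H z).symm ⟨q, k⟩).out⁻¹ * z *
        ((quotientEquivSigmaZMod H z).symm ⟨q, k⟩).out) = extOne φ (t₀⁻¹ * z * t₀) := by
    intro k
    rw [quotientEquivSigmaZMod_symm_apply]
    have e : z ^ (k.cast : ℤ) • q.out = ((z ^ (k.cast : ℤ) * t₀ : G) : G ⧸ H) := by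
      rw [← smul_eq_mul, Quotient.coe_smul_out]
    rw [e, extOne_out]
    congr 1
    rw [mul_inv_rev, mul_assoc (t₀⁻¹ * (z ^ (k.cast : ℤ))⁻¹) z, ← mul_assoc z, mul_assoc t₀⁻¹]
    rw [← mul_assoc (z ^ (k.cast : ℤ))⁻¹]
    rw [((Commute.refl z).zpow_right _).eq, inv_mul_cancel_left, mul_assoc t₀⁻¹]
  rw [Finset.prod_congr rfl fun k _ => hk k, Finset.prod_const, Finset.card_univ]
  by_cases h : t₀⁻¹ * z * t₀ ∈ H
  · have hfix : z • q.out = q.out := by
      rw [← QuotientGroup.out_eq' q.out]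
      exact (QuotientGroup.eq.2 (show t₀⁻¹ * (z * t₀) ∈ H by rwa [← mul_assoc])).symm
    have hper : Function.minimalPeriod (z • ·) q.out = 1 :=
      Function.minimalPeriod_eq_one_iff_isFixedPt.2 hfix
    rw [ZMod.card, extOne_of_mem φ h]
    refine Eq.trans ?_ ((congrArg _ hper).trans (pow_one _)).symm
    congr 1
    exact Subtype.ext (by simp [t₀, hper])
  · rw [extOne_of_not_mem φ h, one_pow]
    exact hmov t₀ h _ _

end CfsgLib.Yoshida
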