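import Cfsg.Agent.Lib.Yoshida.WreathImage
import Cfsg.Agent.Lib.Yoshida.TransferExt
import Cfsg.Agent.Lib.Transfer.Tate
import Mathlib.GroupTheory.Nilpotent

/-!
# Yoshida's transfer theorem
-/

set_option autoImplicit false

namespace CfsgLib.Yoshida

open Cfsg MulAction Subgroup
open scoped commutatorElement

variable {G : Type*} [Group G] {p : ℕ} [hp : Fact p.Prime]

/-- A maximal subgroup of a finite `p`-group is normal of index `p`. -/
theorem coatom_normal_index {K : Type*} [Group K] [Finite K] (hK : IsPGroup p K) {M : Subgroup K}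
    (hM : IsCoatom M) : M.Normal ∧ M.index = p := by
  have := hK.isNilpotent
  have hn : M.Normal := Subgroup.NormalizerCondition.normal_of_coatom M
    Group.normalizerCondition_of_isNilpotent hM
  refine ⟨hn, ?_⟩
  obtain ⟨k, hk⟩ := hK.index M
  have hk0 : k ≠ 0 := fun h => hM.1 (Subgroup.index_eq_one.1 (by rw [hk, h, pow_zero]))
  obtain ⟨a, ha⟩ := exists_prime_orderOf_dvd_card' (G := K ⧸ M) p
    ((hk.symm ▸ dvd_pow_self p hk0) : p ∣ M.index)
  have htop : (Subgroup.zpowers a).comap (QuotientGroup.mk' M) = ⊤ := by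
    refine hM.2 _ (lt_of_le_of_ne (fun m hm => ?_) fun heq => ?_)
    · rw [Subgroup.mem_comap, QuotientGroup.mk'_apply, (QuotientGroup.eq_one_iff m).2 hm]
      exact one_mem _
    · obtain ⟨b, rfl⟩ := QuotientGroup.mk'_surjective M a
      have hb : b ∈ M := by rw [heq]; exact Subgroup.mem_zpowers _
      rw [QuotientGroup.mk'_apply, (QuotientGroup.eq_one_iff b).2 hb, orderOf_one] at ha
      exact hp.out.ne_one ha.symm
  have h2 : Subgroup.zpowers a = ⊤ :=
    Subgroup.comap_injective (QuotientGroup.mk'_surjective M) (htop.trans (Subgroup.comap_top _).symm)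
  rw [Subgroup.index_eq_card, ← Subgroup.card_top, ← h2, Nat.card_zpowers, ha]

/-- An element of `p`-power order killed in `N/N'` modulo `O^p(N)` lies in `N'`. -/
theorem mem_commutator_of_mem_sup {N : Type*} [Group N] [Finite N] {x : N} {k : ℕ}
    (hx : x ^ p ^ k = 1) (h : x ∈ commutator N ⊔ pResidual p N) : x ∈ commutator N := by
  let q : N →* Abelianization N := Abelianization.of
  have hqx : q x ∈ pResidual p (Abelianization N) := by
    have h1 : commutator N ⊔ pResidual p N ≤ (pResidual p (Abelianization N)).comap q :=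
      sup_le ((Abelianization.commutator_subset_ker q).trans (Subgroup.ker_le_comap q _))
        (Subgroup.map_le_iff_le_comap.1 (CfsgLib.Transfer.map_pResidual_le q))
    exact h1 h
  have hcop : ∀ a ∈ pResidual p (Abelianization N), Nat.Coprime (orderOf a) p := by
    intro a ha
    rw [pResidual] at ha
    induction ha using Subgroup.closure_induction with
    | mem a ha => exact ha
    | one => simp
    | mul a b _ _ iha ihb =>
      exact Nat.Coprime.coprime_dvd_left (Commute.orderOf_mul_dvd_mul_orderOf (Commute.all a b))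
        (Nat.Coprime.mul_left iha ihb)
    | inv a _ iha => rwa [orderOf_inv]
  have h2 : orderOf (q x) ∣ p ^ k := orderOf_dvd_of_pow_eq_one (by rw [← map_pow, hx, map_one])
  have h3 : orderOf (q x) = 1 :=
    Nat.eq_one_of_dvd_coprimes ((hcop _ hqx).pow_right k) dvd_rfl h2
  have h4 : q x = 1 := orderOf_eq_one_iff.1 h3
  rwa [← Abelianization.ker_of, MonoidHom.mem_ker]

/-- If `N` does not control transfer, some homomorphism of `N` onto a group of order `p` is
nontrivial on an element of `S ∩ O^p(G)`. -/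
theorem exists_hom_of_not_control [Finite G] (S : Sylow p G) (N : Subgroup G)
    (hSN : (S : Subgroup G) ≤ N)
    (h : (S : Subgroup G) ⊓ commutator G ≠ (S : Subgroup G) ⊓ ⁅N, N⁆) :
    ∃ (lam : N →* Multiplicative (ZMod p)) (x : N), (x : G) ∈ S ∧ (x : G) ∈ pResidual p G ∧
      lam x ≠ 1 := by
  set L := (pResidual p G).subgroupOf N with hL
  by_cases hX : ∀ X : Subgroup N, pResidual p N ≤ X → X ⊔ L = ⊤ → X = ⊤
  · exfalso
    have hres := CfsgLib.Transfer.tate_core S N hSN hX
    refine h (le_antisymm ?_ (inf_le_inf_left _ (Subgroup.commutator_mono le_top le_top)))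
    intro x hx
    refine ⟨hx.1, ?_⟩
    let W : Subgroup N := commutator N ⊔ pResidual p N
    have hWn : W.Normal := inferInstance
    -- a map `G → N / W` extending the projection
    have hmul : ∀ g : G, ∃ n : N, (n : G)⁻¹ * g ∈ pResidual p G := by
      intro g
      obtain ⟨k, hk, y, hy, rfl⟩ := Subgroup.mem_sup_of_normal_left.mp
        (show g ∈ pResidual p G ⊔ (S : Subgroup G) by
          simp [CfsgLib.Transfer.pResidual_sup_of_sylow])
      exact ⟨⟨y, hSN hy⟩, by
        simpa [mul_assoc] using CfsgLib.Transfer.pResidual_normal.conj_mem' k hk y⟩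
    choose n hn using hmul
    have hwd : ∀ a b : N, (a : G)⁻¹ * b ∈ pResidual p G → (a : N ⧸ W) = b := by
      intro a b hab
      refine QuotientGroup.eq.2 (Subgroup.mem_sup_right ?_)
      rw [← hres]
      exact hab
    let θ : G →* N ⧸ W := MonoidHom.mk' (fun g => (n g : N ⧸ W)) fun a b => by
      rw [← QuotientGroup.mk_mul]
      refine hwd _ _ ?_
      have h1 : (pResidual p G).Normal := inferInstance
      have e : ((n (a * b) : G))⁻¹ * ((n a * n b : N) : G) =
          ((n (a * b) : G)⁻¹ * (a * b)) * ((b⁻¹ * (((n a : G))⁻¹ * a)⁻¹ * b) *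
            ((n b : G)⁻¹ * b)⁻¹) := by
        simp [mul_assoc]
      rw [e]
      exact mul_mem (hn _) (mul_mem (h1.conj_mem' _ (inv_mem (hn a)) b) (inv_mem (hn b)))
    let : CommGroup (N ⧸ W) :=
      { (inferInstance : Group (N ⧸ W)) with
        mul_comm := fun a b => by
          induction a using QuotientGroup.induction_on with
          | H a =>
            induction b using QuotientGroup.induction_on with
            | H b =>
              refine QuotientGroup.eq.2 (Subgroup.mem_sup_left ?_)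
              have e : (a * b)⁻¹ * (b * a) = ⁅(b : N)⁻¹, a⁻¹⁆ := by simp [commutatorElement_def, mul_assoc]
              rw [e]
              exact Subgroup.commutator_mem_commutator (Subgroup.mem_top _) (Subgroup.mem_top _) }
    have h1 : θ x = 1 := Abelianization.commutator_subset_ker θ hx.2
    have h2 : (⟨x, hSN hx.1⟩ : N) ∈ W := by
      rw [← QuotientGroup.eq_one_iff, ← h1]
      exact (hwd _ _ (hn x)).symm
    obtain ⟨k, hk⟩ := S.2 ⟨x, hx.1⟩
    have h3 := mem_commutator_of_mem_sup (p := p) (x := (⟨x, hSN hx.1⟩ : N)) (k := k)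
      (Subtype.ext (by simpa using congrArg Subtype.val hk)) h2
    rw [← N.map_subtype_commutator]
    exact ⟨_, h3, rfl⟩
  · push_neg at hX
    obtain ⟨X, hX1, hX2, hX3⟩ := hX
    let q := QuotientGroup.mk' (pResidual p N)
    have hq : Function.Surjective q := QuotientGroup.mk'_surjective _
    have hXq : X.map q ≠ ⊤ := by
      intro h1
      refine hX3 ?_
      have h2 := congrArg (Subgroup.comap q) h1
      rwa [Subgroup.comap_map_eq, QuotientGroup.ker_mk', Subgroup.comap_top,
        sup_eq_left.mpr hX1] at h2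
    obtain ⟨Mb, hMb, hXM⟩ := (eq_top_or_exists_le_coatom (X.map q)).resolve_left hXq
    obtain ⟨hMn, hMi⟩ := coatom_normal_index (p := p)
      CfsgLib.Transfer.isPGroup_quotient_pResidual hMb
    have hMcard : Nat.card ((N ⧸ pResidual p N) ⧸ Mb) = p := hMi
    obtain ⟨eM⟩ : Nonempty ((N ⧸ pResidual p N) ⧸ Mb ≃* Multiplicative (ZMod p)) :=
      ⟨mulEquivOfPrimeCardEq hMcard (by simp)⟩
    let lam : N →* Multiplicative (ZMod p) := eM.toMonoidHom.comp ((QuotientGroup.mk' Mb).comp q)
    have hker : X ≤ lam.ker := fun a ha => by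
      have h1 : QuotientGroup.mk' Mb (q a) = 1 :=
        (QuotientGroup.eq_one_iff _).2 (hXM (Subgroup.mem_map_of_mem q ha))
      show eM (QuotientGroup.mk' Mb (q a)) = 1
      rw [h1, map_one]
    have hne : lam.ker ≠ ⊤ := by
      intro h1
      refine hMb.1 (eq_top_iff.2 fun b _ => ?_)
      obtain ⟨a, rfl⟩ := hq b
      have h2 : lam a = 1 := h1.ge (Subgroup.mem_top a)
      exact (QuotientGroup.eq_one_iff _).1 (eM.injective (h2.trans (map_one eM).symm))
    obtain ⟨l, hl, hl'⟩ : ∃ l ∈ L, lam l ≠ 1 := by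
      by_contra! h1
      exact hne (top_le_iff.1 (hX2 ▸ sup_le hker fun l hl => h1 l hl))
    obtain ⟨a, ha, y, hy, rfl⟩ := Subgroup.mem_sup_of_normal_left.mp
      (show l ∈ pResidual p N ⊔ (S.subtype hSN : Subgroup N) by
        rw [CfsgLib.Transfer.pResidual_sup_of_sylow]; exact Subgroup.mem_top l)
    refine ⟨lam, y, hy, ?_, ?_⟩
    · have ha' : (a : G) ∈ pResidual p G :=
        CfsgLib.Transfer.map_subtype_pResidual_le N (Subgroup.mem_map_of_mem _ ha)
      exact (Subgroup.mul_mem_cancel_left _ ha').mp hl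
    · rwa [map_mul, MonoidHom.mem_ker.1 (hker (hX1 ha)), one_mul] at hl'

/-- **Yoshida's theorem.** -/
theorem yoshida [Finite G] (S : Sylow p G)
    (h : (S : Subgroup G) ⊓ commutator G ≠
      (S : Subgroup G) ⊓ ⁅normalizer ((S : Subgroup G) : Set G),
        normalizer ((S : Subgroup G) : Set G)⁆) :
    ∃ (W : Sylow p (Equiv.Perm (Fin (p ^ 2))))
      (f : ↥(S : Subgroup G) →* ↥(W : Subgroup (Equiv.Perm (Fin (p ^ 2))))),
      Function.Surjective f := by
  classical
  set N := normalizer ((S : Subgroup G) : Set G) with hN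
  have hSN : (S : Subgroup G) ≤ N := Subgroup.le_normalizer
  obtain ⟨lam, x₀, hx₀S, hx₀R, hx₀l⟩ := exists_hom_of_not_control S N hSN h
  let φ : (S : Subgroup G) →* Multiplicative (ZMod p) := lam.comp (Subgroup.inclusion hSN)
  obtain ⟨x, ⟨hxR, hxl⟩, hmin⟩ := Set.exists_min_image
    {s : (S : Subgroup G) | (s : G) ∈ pResidual p G ∧ φ s ≠ 1} (fun s => orderOf s)
    (Set.toFinite _) ⟨⟨x₀, hx₀S⟩, hx₀R, hx₀l⟩
  have hpR := (CfsgLib.Transfer.pResidual_normal (G := G) (p := p))
  -- moved cosets contribute nothing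
  have hmov : ∀ t : G, t⁻¹ * (x : G) * t ∉ (S : Subgroup G) →
      ∀ (n : ℕ) (h : t⁻¹ * (x : G) ^ n * t ∈ (S : Subgroup G)), φ ⟨_, h⟩ = 1 := by
    intro t ht n hn
    by_contra hne
    refine ht ?_
    have h1 := hmin ⟨_, hn⟩ ⟨hpR.conj_mem' _ (pow_mem hxR n) t, hne⟩
    have h2 : orderOf (⟨_, hn⟩ : (S : Subgroup G)) = orderOf (x ^ n) := by
      rw [← Subgroup.orderOf_coe, ← Subgroup.orderOf_coe (x ^ n)]
      simpa using (MulAut.conj t⁻¹).orderOf_eq ((x : G) ^ n)
    simp only [h2] at h1
    have hmem : x ∈ Subgroup.zpowers (x ^ n) := by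
      have h3 : Subgroup.zpowers (x ^ n) ≤ Subgroup.zpowers x :=
        Subgroup.zpowers_le.2 (pow_mem (Subgroup.mem_zpowers x) n)
      have h4 := Subgroup.eq_of_le_of_card_ge h3 (by rwa [Nat.card_zpowers, Nat.card_zpowers])
      exact h4 ▸ Subgroup.mem_zpowers x
    obtain ⟨m, hm⟩ := Subgroup.mem_zpowers_iff.1 hmem
    have h5 : t⁻¹ * (x : G) * t = (t⁻¹ * (x : G) ^ n * t) ^ m := by
      have h6 := congrArg Subtype.val hm
      simp only [SubgroupClass.coe_zpow, SubmonoidClass.coe_pow] at h6
      have h7 := conj_zpow (i := m) (a := t⁻¹) (b := (x : G) ^ n)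
      rw [inv_inv] at h7
      rw [h7, h6]
    rw [h5]
    exact zpow_mem hn m
  let : Fintype (G ⧸ (S : Subgroup G)) := Fintype.ofFinite _
  let hc : G ⧸ (S : Subgroup G) → Multiplicative (ZMod p) :=
    fun c => extOne φ (c.out⁻¹ * (x : G) * c.out)
  have htotal : ∏ c, hc c = 1 := by
    rw [← transfer_eq_prod_extOne φ (x : G) hmov]
    exact CfsgLib.Transfer.pResidual_le_ker_of_isPGroup
      (IsPGroup.of_card (n := 1) (by simp)) (MonoidHom.transfer φ) hxR
  have hc_mk : ∀ t : G, hc t = extOne φ (t⁻¹ * (x : G) * t) := fun t => extOne_out φ t _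
  -- the cosets fixed by `S` contribute a nontrivial power of `φ x`
  have hfixed : ∀ c : G ⧸ (S : Subgroup G), (∀ s : (S : Subgroup G), s • c = c) → hc c = φ x := by
    intro c hcf
    induction c using QuotientGroup.induction_on with
    | H g =>
      have hg : ∀ s ∈ (S : Subgroup G), g⁻¹ * s * g ∈ (S : Subgroup G) := by
        intro s hs
        have h1 := QuotientGroup.eq.1 (hcf ⟨s, hs⟩).symm
        rw [mul_assoc]
        exact h1
      have hgN : g ∈ N := by
        rw [hN, Subgroup.mem_normalizer_iff'']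
        intro a
        refine ⟨hg a, fun ha => ?_⟩
        have hmap : (S : Subgroup G).map (MulAut.conj g⁻¹).toMonoidHom = (S : Subgroup G) := by
          refine Subgroup.eq_of_le_of_card_ge ?_ ?_
          · rintro _ ⟨s, hs, rfl⟩
            simpa using hg s hs
          · exact (Nat.card_congr ((S : Subgroup G).equivMapOfInjective _
              (MulAut.conj g⁻¹).injective).toEquiv).le
        rw [← hmap] at ha
        obtain ⟨s, hs, hse⟩ := ha
        have e : s = a := by simpa [mul_assoc] using hse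
        exact e ▸ hs
      rw [hc_mk, extOne_of_mem φ (hg _ x.2)]
      have e : Subgroup.inclusion hSN ⟨g⁻¹ * (x : G) * g, hg _ x.2⟩ =
          (⟨g, hgN⟩ : N)⁻¹ * Subgroup.inclusion hSN x * ⟨g, hgN⟩ := rfl
      show lam _ = lam _
      rw [e, map_mul, map_mul, map_inv, mul_comm, mul_inv_cancel_left]
  -- some orbit has nontrivial contribution
  obtain ⟨c₀, hc₀, hc₀'⟩ : ∃ c₀ : G ⧸ (S : Subgroup G), stabilizer (S : Subgroup G) c₀ ≠ ⊤ ∧
      ∀ [Fintype ((S : Subgroup G) ⧸ stabilizer (S : Subgroup G) c₀)],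
        (∏ r : (S : Subgroup G) ⧸ stabilizer (S : Subgroup G) c₀, hc (r.out • c₀)) ≠ 1 := by
    by_contra hcon
    push_neg at hcon
    let Ω := orbitRel.Quotient (S : Subgroup G) (G ⧸ (S : Subgroup G))
    let : Fintype Ω := Fintype.ofFinite _
    let E : G ⧸ (S : Subgroup G) ≃ Σ ω : Ω, (S : Subgroup G) ⧸ stabilizer (S : Subgroup G) ω.out :=
      selfEquivSigmaOrbitsQuotientStabilizer (S : Subgroup G) (G ⧸ (S : Subgroup G))
    let : ∀ ω : Ω, Fintype ((S : Subgroup G) ⧸ stabilizer (S : Subgroup G) ω.out) :=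
      fun ω => Fintype.ofFinite _
    let m : Ω → ℕ := fun ω =>
      if stabilizer (S : Subgroup G) ω.out = ⊤ then 1 else 0
    have hE : ∀ (ω : Ω) (r : (S : Subgroup G) ⧸ stabilizer (S : Subgroup G) ω.out),
        E.symm ⟨ω, r⟩ = r.out • ω.out := by
      intro ω r
      conv_lhs => rw [← QuotientGroup.out_eq' r]
      rfl
    have horb : ∀ ω : Ω, (∏ r, hc (E.symm ⟨ω, r⟩)) = φ x ^ m ω := by
      intro ω
      simp only [hE, m]
      split_ifs with hst
      · have hall : ∀ r : (S : Subgroup G) ⧸ stabilizer (S : Subgroup G) ω.out,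
            hc (r.out • ω.out) = φ x := fun r => hfixed _ fun s => by
          have h1 : ∀ s : (S : Subgroup G), s • ω.out = ω.out := fun s =>
            mem_stabilizer_iff.1 (hst ▸ Subgroup.mem_top s)
          rw [h1, h1]
        rw [Finset.prod_congr rfl fun r _ => hall r, Finset.prod_const, Finset.card_univ,
          ← Nat.card_eq_fintype_card]
        congr 1
        exact Subgroup.index_eq_one.2 hst
      · obtain ⟨inst, h1⟩ := hcon ω.out hst
        rw [pow_zero, ← h1]
        congr
        exact Subsingleton.elim _ _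
    have hprod : φ x ^ (∑ ω, m ω) = 1 := by
      rw [← Finset.prod_pow_eq_pow_sum, ← htotal, ← E.symm.prod_comp, Fintype.prod_sigma]
      exact (Finset.prod_congr rfl fun ω _ => horb ω).symm
    have hmod : Fintype.card (G ⧸ (S : Subgroup G)) ≡ ∑ ω, m ω [MOD p] := by
      rw [Fintype.card_congr E, Fintype.card_sigma, ← ZMod.natCast_eq_natCast_iff, Nat.cast_sum,
        Nat.cast_sum]
      refine Finset.sum_congr rfl fun ω _ => ?_
      simp only [m, ← Nat.card_eq_fintype_card]
      split_ifs with hst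
      · rw [← Subgroup.index_eq_one.2 hst]; rfl
      · obtain ⟨k, hk⟩ := S.2.index (stabilizer (S : Subgroup G) ω.out)
        change (((stabilizer (S : Subgroup G) ω.out).index : ℕ) : ZMod p) = _
        rw [hk, Nat.cast_pow, CharP.cast_eq_zero, Nat.cast_zero, zero_pow]
        rintro rfl
        exact hst (Subgroup.index_eq_one.1 (by simpa using hk))
    have hdvd : p ∣ ∑ ω, m ω := by
      have hord : orderOf (φ x) = p := by
        refine orderOf_eq_prime ?_ hxl
        apply Multiplicative.toAdd.injective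
        simp
      exact hord ▸ orderOf_dvd_of_pow_eq_one hprod
    refine S.not_dvd_index ?_
    rw [Subgroup.index_eq_card, Nat.card_eq_fintype_card]
    exact Nat.modEq_zero_iff_dvd.1 (hmod.trans (Nat.modEq_zero_iff_dvd.2 hdvd))
  obtain ⟨g, rfl⟩ := QuotientGroup.mk_surjective c₀
  set R := stabilizer (S : Subgroup G) (g : G ⧸ (S : Subgroup G)) with hR
  have hRmem : ∀ s : (S : Subgroup G), s ∈ R ↔ g⁻¹ * (s : G) * g ∈ (S : Subgroup G) := by
    intro s
    rw [hR, mem_stabilizer_iff, eq_comm]
    show ((g : G ⧸ (S : Subgroup G)) = ((s : G) * g : G)) ↔ _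
    rw [QuotientGroup.eq, mul_assoc]
  obtain ⟨Q, hQc, hRQ⟩ := (eq_top_or_exists_le_coatom R).resolve_left hc₀
  obtain ⟨hQn, hQi⟩ := coatom_normal_index S.2 hQc
  let : Fintype ((S : Subgroup G) ⧸ R) := Fintype.ofFinite _
  let : Fintype ((S : Subgroup G) ⧸ Q) := Fintype.ofFinite _
  let R' : Subgroup Q := R.subgroupOf Q
  let : Fintype (Q ⧸ R') := Fintype.ofFinite _
  have hS' : ∀ r : R', g⁻¹ * ((r : Q) : G) * g ∈ (S : Subgroup G) := fun r =>
    (hRmem _).1 r.2
  let φg : R' →* Multiplicative (ZMod p) :=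
    MonoidHom.mk' (fun r => φ ⟨g⁻¹ * ((r : Q) : G) * g, hS' r⟩) fun a b => by
      rw [← map_mul]
      exact congrArg φ (Subtype.ext (by simp [mul_assoc]))
  have hext : ∀ u : Q, extOne φg u = extOne φ (g⁻¹ * (u : G) * g) := by
    intro u
    by_cases hu : u ∈ R'
    · rw [extOne_of_mem φg hu, extOne_of_mem φ ((hRmem (u : (S : Subgroup G))).1 hu)]; rfl
    · rw [extOne_of_not_mem φg hu, extOne_of_not_mem φ fun h1 => hu ((hRmem (u : (S : Subgroup G))).2 h1)]
  let ν : Q →* Multiplicative (ZMod p) := MonoidHom.transfer φg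
  have hterm : ∀ s : (S : Subgroup G), hc (s • (g : G ⧸ (S : Subgroup G))) =
      extOne φ (g⁻¹ * ((s : G)⁻¹ * (x : G) * s) * g) := by
    intro s
    show hc ((s : G) * g : G) = _
    rw [hc_mk]
    simp [mul_assoc]
  have hxQ : x ∈ Q := by
    by_contra hxQ
    refine hc₀' (Finset.prod_eq_one fun r _ => ?_)
    rw [hterm, extOne_of_not_mem]
    intro h1
    have h2 : r.out⁻¹ * x * r.out ∈ Q := hRQ ((hRmem _).2 (by simpa using h1))
    exact hxQ (by simpa [mul_assoc] using hQn.conj_mem _ h2 r.out)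
  refine exists_wreath_image Q S.2 hQi ν ⟨x, hxQ⟩ ?_
  intro hcon
  refine hc₀' ?_
  rw [← hcon]
  have hν : ∀ s : (S : Subgroup G), ν (cj Q s ⟨x, hxQ⟩) =
      ∏ t : Q ⧸ R', hc ((s * t.out) • (g : G ⧸ (S : Subgroup G))) := by
    intro s
    rw [show ν = MonoidHom.transfer φg from rfl, transfer_eq_prod_extOne φg (cj Q s ⟨x, hxQ⟩) ?_]
    · refine Finset.prod_congr rfl fun t _ => ?_
      rw [hext, hterm]
      simp [cj, mul_assoc]
    · intro t ht n hn
      have e : g⁻¹ * (((t⁻¹ * cj Q s ⟨x, hxQ⟩ ^ n * t : Q) : (S : Subgroup G)) : G) * g =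
          ((s : G) * (t : Q) * g)⁻¹ * (x : G) ^ n * ((s : G) * (t : Q) * g) := by
        have h1 := conj_pow (i := n) (a := (s : G)⁻¹) (b := (x : G))
        rw [inv_inv] at h1
        simp [cj, mul_assoc]
        rw [← mul_assoc ((s : G)⁻¹), h1]
        simp [mul_assoc]
      show φ _ = 1
      have h2 := hS' ⟨_, hn⟩
      rw [e] at h2
      have hne : ((s : G) * (t : Q) * g)⁻¹ * (x : G) * ((s : G) * (t : Q) * g) ∉
          (S : Subgroup G) := by
        intro h3
        refine ht ((hRmem _).2 ?_)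
        convert! h3 using 1
        simp [cj, mul_assoc]
      rw [← hmov _ hne n h2]
      exact congrArg φ (Subtype.ext e)
  rw [← (Subgroup.quotientEquivProdOfLE hRQ).symm.prod_comp, Fintype.prod_prod_type]
  refine Finset.prod_congr rfl fun a _ => ?_
  rw [hν]
  refine Finset.prod_congr rfl fun t _ => congrArg hc ?_
  have hw : (Subgroup.quotientEquivProdOfLE hRQ).symm (a, t) =
      ((a.out * t.out : (S : Subgroup G)) : (S : Subgroup G) ⧸ R) := by
    conv_lhs => rw [← QuotientGroup.out_eq' t]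
    rfl
  rw [hw]
  obtain ⟨r, hr, hre⟩ : ∃ r ∈ R, ((a.out * t.out : (S : Subgroup G)) :
      (S : Subgroup G) ⧸ R).out = a.out * t.out * r :=
    ⟨_, QuotientGroup.eq.1 (QuotientGroup.out_eq' _).symm, (mul_inv_cancel_left _ _).symm⟩
  rw [hre, mul_smul, mem_stabilizer_iff.1 hr]

end CfsgLib.Yoshida
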