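import Cfsg.Agent.Lib.Yoshida.Basic
import Mathlib.Data.ZMod.QuotientGroup
import Mathlib.Algebra.BigOperators.Fin

/-!
# Yoshida's argument for a cocycle

A `p`-group `P` acts on a finite set of size prime to `p`, `c` is a cocycle with values in `C_p`
whose product at `x` is trivial, is a fixed nontrivial value at the points fixed by `P`, and has
trivial products over the moving `⟨x⟩`-orbits.  Then `P` maps onto `C_p ≀ C_p`.
-/

set_option autoImplicit false

namespace CfsgLib.Yoshida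

open MulAction Subgroup Function

variable {p : ℕ} [hp : Fact p.Prime] {P : Type*} [Group P] {O : Type*} [MulAction P O]
  {A : Type*} [CommGroup A] {c : P → O → A}

theorem cocycle_one (hc : ∀ a b o, c (a * b) o = c a (b • o) * c b o) (o : O) : c 1 o = 1 := by
  have h := hc 1 1 o
  rw [one_mul, one_smul] at h
  exact left_eq_mul.1 h

theorem cocycle_pow (hc : ∀ a b o, c (a * b) o = c a (b • o) * c b o) (x : P) (o : O) (n : ℕ) :
    c (x ^ n) o = ∏ i ∈ Finset.range n, c x (x ^ i • o) := by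
  induction n with
  | zero => rw [pow_zero, cocycle_one hc, Finset.prod_range_zero]
  | succ n ih => rw [pow_succ', hc, ih, Finset.prod_range_succ, mul_comm]

open scoped Classical in
/-- Only the fixed points count. -/
theorem prod_cocycle_eq [Fintype O] (hc : ∀ a b o, c (a * b) o = c a (b • o) * c b o) (x : P)
    (hmov : ∀ o, x • o ≠ o → ∀ n : ℕ, x ^ n • o = o → c (x ^ n) o = 1) :
    ∏ o, c x o = ∏ o, if x • o = o then c x o else 1 := by
  let Ω := orbitRel.Quotient (zpowers x) O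
  let : Fintype Ω := Fintype.ofFinite _
  have hper : ∀ ω : Ω, NeZero (minimalPeriod (x • ·) ω.out) := fun ω => inferInstance
  let E : O ≃ Σ ω : Ω, ZMod (minimalPeriod (x • ·) ω.out) :=
    (selfEquivSigmaOrbits (zpowers x) O).trans (Equiv.sigmaCongrRight fun ω => orbitZPowersEquiv x ω.out)
  rw [← E.symm.prod_comp, ← E.symm.prod_comp, Fintype.prod_sigma, Fintype.prod_sigma]
  refine Finset.prod_congr rfl fun ω _ => ?_
  set o := ω.out with ho
  set m := minimalPeriod (x • ·) o with hm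
  have hE : ∀ k : ZMod m, E.symm ⟨ω, k⟩ = x ^ k.val • o := by
    intro k
    have h1 : E.symm ⟨ω, k⟩ = x ^ (k.cast : ℤ) • o := rfl
    rw [h1, ← ZMod.natCast_val, zpow_natCast]
  have hprod : ∏ k : ZMod m, c x (E.symm ⟨ω, k⟩) = c (x ^ m) o := by
    rw [cocycle_pow hc, ← Fin.prod_univ_eq_prod_range]
    refine (Fintype.prod_bijective (fun i : Fin m => ((i : ℕ) : ZMod m))
      ((Fintype.bijective_iff_injective_and_card _).2 ⟨fun i j h => ?_, by simp⟩) _ _ fun i => ?_).symm
    · have h2 := congrArg ZMod.val h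
      simp only [ZMod.val_natCast, Nat.mod_eq_of_lt i.2, Nat.mod_eq_of_lt j.2] at h2
      exact Fin.ext h2
    · rw [hE, ZMod.val_natCast, Nat.mod_eq_of_lt i.2]
  rw [hprod]
  have hxm : x ^ m • o = o := by
    have h1 := iterate_minimalPeriod (f := (x • ·)) (x := o)
    rwa [smul_iterate] at h1
  have hcomm : ∀ k : ZMod m, (x • E.symm ⟨ω, k⟩ = E.symm ⟨ω, k⟩ ↔ x • o = o) := by
    intro k
    rw [hE, smul_smul, (Commute.self_pow x _).eq, ← smul_smul, smul_left_cancel_iff]
  by_cases h : x • o = o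
  · have h1 : m = 1 := minimalPeriod_eq_one_iff_isFixedPt.2 h
    rw [Finset.prod_congr rfl fun k _ => if_pos ((hcomm k).2 h), hprod]
  · rw [Finset.prod_congr rfl fun k _ => if_neg fun h1 => h ((hcomm k).1 h1), Finset.prod_const_one]
    exact hmov o h m hxm

open scoped Classical in
/-- Some orbit of `P` has a nontrivial contribution. -/
theorem exists_bad_orbit [Finite P] [Finite O] (hP : IsPGroup p P)
    (c : P → O → Multiplicative (ZMod p)) (hc : ∀ a b o, c (a * b) o = c a (b • o) * c b o)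
    (x : P) (a : Multiplicative (ZMod p)) (ha : a ≠ 1)
    (hfix : ∀ o, (∀ s : P, s • o = o) → c x o = a)
    (hmov : ∀ o, x • o ≠ o → ∀ n : ℕ, x ^ n • o = o → c (x ^ n) o = 1)
    (htotal : ∏ᶠ o, c x o = 1) (hO : ¬ p ∣ Nat.card O) :
    ∃ o₀ : O, stabilizer P o₀ ≠ ⊤ ∧ ∀ [Fintype (P ⧸ stabilizer P o₀)],
      (∏ r : P ⧸ stabilizer P o₀,
        if x • r.out • o₀ = r.out • o₀ then c x (r.out • o₀) else 1) ≠ 1 := by
  let : Fintype O := Fintype.ofFinite O
  set hh : O → Multiplicative (ZMod p) := fun o => if x • o = o then c x o else 1 with hhh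
  have hprod : ∏ o, hh o = 1 := by
    rw [hhh, ← prod_cocycle_eq hc x hmov, ← finprod_eq_prod_of_fintype, htotal]
  suffices h : ∃ o₀ : O, stabilizer P o₀ ≠ ⊤ ∧ ∀ [Fintype (P ⧸ stabilizer P o₀)],
      (∏ r : P ⧸ stabilizer P o₀, hh (r.out • o₀)) ≠ 1 from h
  by_contra hcon
  push Not at hcon
  let Ω := orbitRel.Quotient P O
  let : Fintype Ω := Fintype.ofFinite _
  let E : O ≃ Σ ω : Ω, P ⧸ stabilizer P ω.out := selfEquivSigmaOrbitsQuotientStabilizer P O
  let : ∀ ω : Ω, Fintype (P ⧸ stabilizer P ω.out) := fun ω => Fintype.ofFinite _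
  let m : Ω → ℕ := fun ω => if stabilizer P ω.out = ⊤ then 1 else 0
  have hE : ∀ (ω : Ω) (r : P ⧸ stabilizer P ω.out), E.symm ⟨ω, r⟩ = r.out • ω.out := by
    intro ω r
    conv_lhs => rw [← QuotientGroup.out_eq' r]
    rfl
  have horb : ∀ ω : Ω, (∏ r, hh (E.symm ⟨ω, r⟩)) = a ^ m ω := by
    intro ω
    simp only [hE, m]
    split_ifs with hst
    · have h1 : ∀ s : P, s • ω.out = ω.out := fun s =>
        mem_stabilizer_iff.1 (hst ▸ Subgroup.mem_top s)
      have hall : ∀ r : P ⧸ stabilizer P ω.out, hh (r.out • ω.out) = a := fun r => by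
        rw [h1, hhh]
        simp only [h1, if_true, hfix _ h1]
      rw [Finset.prod_congr rfl fun r _ => hall r, Finset.prod_const, Finset.card_univ,
        ← Nat.card_eq_fintype_card]
      congr 1
      exact Subgroup.index_eq_one.2 hst
    · obtain ⟨inst, h1⟩ := hcon ω.out hst
      rw [pow_zero, ← h1]
      congr
      exact Subsingleton.elim _ _
  have hpow : a ^ (∑ ω, m ω) = 1 := by
    rw [← Finset.prod_pow_eq_pow_sum, ← hprod, ← E.symm.prod_comp, Fintype.prod_sigma]
    exact (Finset.prod_congr rfl fun ω _ => horb ω).symm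
  have hmod : Fintype.card O ≡ ∑ ω, m ω [MOD p] := by
    rw [Fintype.card_congr E, Fintype.card_sigma, ← ZMod.natCast_eq_natCast_iff, Nat.cast_sum,
      Nat.cast_sum]
    refine Finset.sum_congr rfl fun ω _ => ?_
    simp only [m, ← Nat.card_eq_fintype_card]
    split_ifs with hst
    · rw [← Subgroup.index_eq_one.2 hst]; rfl
    · obtain ⟨k, hk⟩ := hP.index (stabilizer P ω.out)
      change (((stabilizer P ω.out).index : ℕ) : ZMod p) = _
      rw [hk, Nat.cast_pow, CharP.cast_eq_zero, Nat.cast_zero, zero_pow]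
      rintro rfl
      exact hst (Subgroup.index_eq_one.1 (by simpa using hk))
  have hord : orderOf a = p := by
    refine orderOf_eq_prime ?_ ha
    apply Multiplicative.toAdd.injective
    simp
  refine hO ?_
  rw [Nat.card_eq_fintype_card]
  exact Nat.modEq_zero_iff_dvd.1 (hmod.trans (Nat.modEq_zero_iff_dvd.2
    (hord ▸ orderOf_dvd_of_pow_eq_one hpow)))

open scoped Classical in
/-- The contribution of an orbit is a transfer through any normal subgroup above the stabilizer. -/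
theorem orbit_transfer [Finite P] (c : P → O → Multiplicative (ZMod p))
    (hc : ∀ a b o, c (a * b) o = c a (b • o) * c b o) (x : P)
    (hmov : ∀ o, x • o ≠ o → ∀ n : ℕ, x ^ n • o = o → c (x ^ n) o = 1)
    (o₀ : O) (Q : Subgroup P) [hQn : Q.Normal] (hRQ : stabilizer P o₀ ≤ Q) [Fintype (P ⧸ Q)]
    (hne : ∀ [Fintype (P ⧸ stabilizer P o₀)], (∏ r : P ⧸ stabilizer P o₀,
      if x • r.out • o₀ = r.out • o₀ then c x (r.out • o₀) else 1) ≠ 1) :
    ∃ (hx : x ∈ Q) (ν : Q →* Multiplicative (ZMod p)),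
      (∏ a : P ⧸ Q, ν (cj Q a.out ⟨x, hx⟩)) ≠ 1 := by
  set hh : O → Multiplicative (ZMod p) := fun o => if x • o = o then c x o else 1 with hhh
  replace hne : ∀ [Fintype (P ⧸ stabilizer P o₀)],
      (∏ r : P ⧸ stabilizer P o₀, hh (r.out • o₀)) ≠ 1 := hne
  set R := stabilizer P o₀ with hR
  let : Fintype (P ⧸ R) := Fintype.ofFinite _
  let R' : Subgroup Q := R.subgroupOf Q
  let : Fintype (Q ⧸ R') := Fintype.ofFinite _
  let φ₀ : R' →* Multiplicative (ZMod p) :=
    MonoidHom.mk' (fun r => c ((r : Q) : P) o₀) fun r r' => by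
      show c (((r : Q) : P) * ((r' : Q) : P)) o₀ = _
      rw [hc, show ((r' : Q) : P) • o₀ = o₀ from r'.2]
  let ν : Q →* Multiplicative (ZMod p) := MonoidHom.transfer φ₀
  have hmemR : ∀ s : P, s⁻¹ * x * s ∈ R ↔ x • s • o₀ = s • o₀ := by
    intro s
    rw [hR, mem_stabilizer_iff, mul_smul, mul_smul, inv_smul_eq_iff]
  have hshift : ∀ (s y : P), s⁻¹ * y * s ∈ R → c y (s • o₀) = c (s⁻¹ * y * s) o₀ := by
    intro s y hy
    have h1 := hc y s o₀
    have h2 := hc s (s⁻¹ * y * s) o₀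
    rw [show s * (s⁻¹ * y * s) = y * s by simp [mul_assoc], mem_stabilizer_iff.1 hy, h1,
      mul_comm] at h2
    exact mul_left_cancel h2
  have hterm : ∀ (s : P) (u : Q), (u : P) = s⁻¹ * x * s → extOne φ₀ u = hh (s • o₀) := by
    intro s u hu
    by_cases h : x • s • o₀ = s • o₀
    · have h1 : u ∈ R' := by
        rw [Subgroup.mem_subgroupOf, hu]
        exact (hmemR s).2 h
      rw [extOne_of_mem φ₀ h1, hhh]
      simp only [h, if_true, hshift s x ((hmemR s).2 h)]
      exact congrArg (fun z => c z o₀) hu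
    · rw [extOne_of_not_mem, hhh]
      · simp only [h, if_false]
      · rw [Subgroup.mem_subgroupOf, hu]
        exact fun h1 => h ((hmemR s).1 h1)
  have hxQ : x ∈ Q := by
    by_contra hxQ
    refine hne (Finset.prod_eq_one fun r _ => ?_)
    simp only [hhh]
    rw [if_neg]
    intro h1
    have h2 : r.out⁻¹ * x * r.out ∈ Q := hRQ ((hmemR r.out).2 h1)
    exact hxQ (by simpa [mul_assoc] using hQn.conj_mem _ h2 r.out)
  refine ⟨hxQ, ν, fun hcon => ?_⟩
  refine hne ?_
  rw [← hcon]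
  have hν : ∀ s : P, ν (cj Q s ⟨x, hxQ⟩) = ∏ t : Q ⧸ R', hh ((s * t.out) • o₀) := by
    intro s
    rw [show ν = MonoidHom.transfer φ₀ from rfl, transfer_eq_prod_extOne φ₀ (cj Q s ⟨x, hxQ⟩) ?_]
    · exact Finset.prod_congr rfl fun t _ => hterm _ _ (by simp [cj, mul_assoc])
    · intro t ht n hn
      have e : ((t⁻¹ * cj Q s ⟨x, hxQ⟩ ^ n * t : Q) : P) = (s * t)⁻¹ * x ^ n * (s * t) := by
        have h1 := conj_pow (i := n) (a := s⁻¹) (b := x)
        rw [inv_inv] at h1
        simp only [cj, Subgroup.coe_mul, InvMemClass.coe_inv, SubmonoidClass.coe_pow, h1]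
        simp [mul_assoc]
      have hn' : (s * (t : P))⁻¹ * x ^ n * (s * t) ∈ R := e ▸ hn
      show c ((t⁻¹ * cj Q s ⟨x, hxQ⟩ ^ n * t : Q) : P) o₀ = 1
      rw [e, ← hshift _ _ hn']
      refine hmov _ (fun h => ht ?_) n ?_
      · rw [Subgroup.mem_subgroupOf]
        have h1 := (hmemR _).2 h
        simpa [cj, mul_assoc] using h1
      · have h1 := mem_stabilizer_iff.1 hn'
        rwa [mul_smul, mul_smul, inv_smul_eq_iff] at h1
  rw [← (Subgroup.quotientEquivProdOfLE hRQ).symm.prod_comp, Fintype.prod_prod_type]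
  refine Finset.prod_congr rfl fun a' _ => ?_
  rw [hν]
  refine Finset.prod_congr rfl fun t _ => congrArg hh ?_
  have hw : (Subgroup.quotientEquivProdOfLE hRQ).symm (a', t) = ((a'.out * t.out : P) : P ⧸ R) := by
    conv_lhs => rw [← QuotientGroup.out_eq' t]
    rfl
  rw [hw]
  obtain ⟨r, hr, hre⟩ : ∃ r ∈ R, ((a'.out * t.out : P) : P ⧸ R).out = a'.out * t.out * r :=
    ⟨_, QuotientGroup.eq.1 (QuotientGroup.out_eq' _).symm, (mul_inv_cancel_left _ _).symm⟩
  rw [hre, mul_smul, mem_stabilizer_iff.1 hr]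

/-- **Yoshida's criterion for a cocycle.** -/
theorem exists_wreath_of_cocycle [Finite P] [Finite O] (hP : IsPGroup p P)
    (c : P → O → Multiplicative (ZMod p)) (hc : ∀ a b o, c (a * b) o = c a (b • o) * c b o)
    (x : P) (a : Multiplicative (ZMod p)) (ha : a ≠ 1)
    (hfix : ∀ o, (∀ s : P, s • o = o) → c x o = a)
    (hmov : ∀ o, x • o ≠ o → ∀ n : ℕ, x ^ n • o = o → c (x ^ n) o = 1)
    (htotal : ∏ᶠ o, c x o = 1) (hO : ¬ p ∣ Nat.card O) :
    ∃ (W : Sylow p (Equiv.Perm (Fin (p ^ 2))))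
      (f : P →* ↥(W : Subgroup (Equiv.Perm (Fin (p ^ 2))))), Function.Surjective f := by
  classical
  obtain ⟨o₀, hns, hne⟩ := exists_bad_orbit hP c hc x a ha hfix hmov htotal hO
  obtain ⟨Q, hQc, hRQ⟩ := (eq_top_or_exists_le_coatom _).resolve_left hns
  obtain ⟨hQn, hQi⟩ := coatom_normal_index hP hQc
  let : Fintype (P ⧸ Q) := Fintype.ofFinite _
  obtain ⟨hx, ν, hν⟩ := orbit_transfer c hc x hmov o₀ Q hRQ hne
  exact exists_wreath_image Q hP hQi ν ⟨x, hx⟩ hν

end CfsgLib.Yoshida
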