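import Cfsg.Agent.Lib.Yoshida.Cocycle
import Cfsg.Agent.Lib.Fusion.Tate
import Cfsg.Agent.Lib.Fusion.LocalSaturation

/-!
# Yoshida's theorem for fusion systems

The transfer is the product of the coordinates of the wreath embedding of the group realizing the
system on a characteristic biset.
-/

set_option autoImplicit false

namespace CfsgLib.Yoshida

open Cfsg Cfsg.FusionSystem CfsgLib.Fusion CfsgLib.Marks CfsgLib.Fusion.Realize MulAction
  CfsgLib.Fusion.PPowerIndex

universe u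

variable {Ω : Type u} [Group Ω] {S : Subgroup Ω} {p : ℕ} [hp : Fact p.Prime]

theorem comm_mem_frattini {K : Type*} [Group K] [Finite K] (hK : IsPGroup p K) (g a : K) :
    g * a * g⁻¹ * a⁻¹ ∈ frattini K := by
  rw [frattini, Order.radical, Subgroup.mem_iInf]
  intro C
  rw [Subgroup.mem_iInf]
  intro hC
  obtain ⟨hn, hi⟩ := coatom_normal_index hK hC
  have : IsCyclic (K ⧸ C) := isCyclic_of_prime_card (p := p) hi
  refine (QuotientGroup.eq_one_iff _).1 ?_
  let : CommGroup (K ⧸ C) := IsCyclic.commGroup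
  simp only [QuotientGroup.mk_mul, QuotientGroup.mk_inv]
  calc (g : K ⧸ C) * a * (g : K ⧸ C)⁻¹ * (a : K ⧸ C)⁻¹ = 1 := by
        rw [mul_comm (g : K ⧸ C) a, mul_inv_cancel_right, mul_inv_cancel]

theorem pow_mem_frattini {K : Type*} [Group K] [Finite K] (hK : IsPGroup p K) (z : K) :
    z ^ p ∈ frattini K := by
  rw [frattini, Order.radical, Subgroup.mem_iInf]
  intro C
  rw [Subgroup.mem_iInf]
  intro hC
  obtain ⟨hn, hi⟩ := coatom_normal_index hK hC
  refine (QuotientGroup.eq_one_iff _).1 ?_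
  rw [QuotientGroup.mk_pow, ← hi, Subgroup.index_eq_card, pow_card_eq_one']

/-- Separating an element from a subgroup above the Frattini subgroup by a map to `C_p`. -/
theorem exists_hom_of_not_mem {K : Type*} [Group K] [Finite K] (hK : IsPGroup p K) {W : Subgroup K}
    (hW : frattini K ≤ W) {y : K} (hy : y ∉ W) :
    ∃ lam : K →* Multiplicative (ZMod p), W ≤ lam.ker ∧ lam y ≠ 1 := by
  obtain ⟨M, hWM, hyM, hM⟩ : ∃ M : Subgroup K, W ≤ M ∧ y ∉ M ∧ IsCoatom M := by
    obtain ⟨M, hWM, hM⟩ := Finite.exists_le_maximal (p := fun M : Subgroup K => W ≤ M ∧ y ∉ M)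
      (a := W) ⟨le_rfl, hy⟩
    refine ⟨M, hM.1.1, hM.1.2, fun h => hM.1.2 (h ▸ Subgroup.mem_top y), fun M' hlt => ?_⟩
    by_contra hne
    obtain ⟨C, hC, hMC⟩ := (eq_top_or_exists_le_coatom M').resolve_left hne
    have hyM' : y ∈ M' := by
      by_contra h
      exact hlt.not_ge (hM.2 ⟨hM.1.1.trans hlt.le, h⟩ hlt.le)
    have hMn : M.Normal := ⟨fun a ha g => by
      have h2 := M.mul_mem (hM.1.1 (hW (comm_mem_frattini hK g a))) ha
      rwa [inv_mul_cancel_right] at h2⟩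
    obtain ⟨z, hzC⟩ : ∃ z, z ∉ C := by
      by_contra! h
      exact hC.1 ((Subgroup.eq_top_iff' C).2 h)
    have hzy : y ∈ M ⊔ Subgroup.zpowers z := by
      by_contra h
      exact hzC (hMC (hlt.le (hM.2 ⟨hM.1.1.trans le_sup_left, h⟩ le_sup_left
        (Subgroup.mem_sup_right (Subgroup.mem_zpowers z)))))
    obtain ⟨m, hm, w, hw, hmw⟩ := Subgroup.mem_sup_of_normal_left.1 hzy
    obtain ⟨n, rfl⟩ := Subgroup.mem_zpowers_iff.1 hw
    have hn0 : ¬ (p : ℤ) ∣ n := by
      rintro ⟨r, rfl⟩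
      refine hM.1.2 ?_
      rw [← hmw, zpow_mul, zpow_natCast]
      exact M.mul_mem hm (zpow_mem (hM.1.1 (hW (pow_mem_frattini hK z))) r)
    have hzn : z ^ n ∈ C := by
      rw [← Subgroup.mul_mem_cancel_left C (hMC (hlt.le hm)), hmw]
      exact hMC hyM'
    obtain ⟨hn, hi⟩ := coatom_normal_index hK hC
    have h1 : ((z : K ⧸ C)) ^ n = 1 := by
      rw [← QuotientGroup.mk_zpow]
      exact (QuotientGroup.eq_one_iff _).2 hzn
    have h2 : orderOf (z : K ⧸ C) = p := orderOf_eq_prime (by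
      rw [← hi, Subgroup.index_eq_card, pow_card_eq_one'])
      fun h => hzC ((QuotientGroup.eq_one_iff z).1 h)
    exact hn0 (h2 ▸ orderOf_dvd_iff_zpow_eq_one.2 h1)
  obtain ⟨hn, hi⟩ := coatom_normal_index hK hM
  obtain ⟨e⟩ : Nonempty ((K ⧸ M) ≃* Multiplicative (ZMod p)) :=
    ⟨mulEquivOfPrimeCardEq (p := p) hi (by simp)⟩
  refine ⟨e.toMonoidHom.comp (QuotientGroup.mk' M), fun w hw => ?_, fun h => hyM ?_⟩
  · show e (w : K ⧸ M) = 1
    rw [(QuotientGroup.eq_one_iff w).2 (hWM hw), map_one]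
  · exact (QuotientGroup.eq_one_iff y).1 (e.injective (h.trans (map_one e).symm))

variable {F : Cfsg.FusionSystem S}

theorem focal_mem_of_map_mem {P : Subgroup Ω} {φ : P →* Ω} (hφ : φ ∈ F.Hom P) (y : P)
    (h : φ y ∈ F.focalSubgroup) : (y : Ω) ∈ F.focalSubgroup := by
  have h1 : (y : Ω)⁻¹ * φ y ∈ F.focalSubgroup := Subgroup.subset_closure ⟨P, φ, y, hφ, rfl⟩
  have h2 := mul_mem h (inv_mem h1)
  simpa [mul_assoc] using h2

theorem focal_le (F : Cfsg.FusionSystem S) : F.focalSubgroup ≤ S := by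
  refine (Subgroup.closure_le _).2 ?_
  rintro _ ⟨P, φ, x, hφ, rfl⟩
  exact S.mul_mem (S.inv_mem (dom_le hφ x.2)) (map_mem hφ x)

/-- **Yoshida's theorem** for a saturated fusion system. -/
theorem yoshida_fusion [Finite S] (hS : IsPGroup p S) (hF : F.IsSaturated p)
    (N : Cfsg.FusionSystem (Cfsg.FusionSystem.normalizerIn S S)) (hN : F.IsNormalizerSystem S N)
    (hne : N.focalSubgroup ≠ F.focalSubgroup) :
    ∃ (W : Sylow p (Equiv.Perm (Fin (p ^ 2))))
      (f : ↥S →* ↥(W : Subgroup (Equiv.Perm (Fin (p ^ 2))))), Function.Surjective f := by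
  classical
  set H := copyOver N (normalizerIn_top S) with hH
  have hHsat : H.IsSaturated p :=
    (isSaturated_copyOver N (normalizerIn_top S)).2
      (isSaturated_normalizerSystem hS hF (isFullyNormalized_top F) hN)
  have hHF : H.IsSubsystemOf F := fun P φ hφ => by
    have h1 : φ ∈ N.Hom P := hφ
    rw [hN P] at h1
    exact h1.1
  have hHfoc : H.focalSubgroup = N.focalSubgroup := rfl
  have hT := (CfsgLib.Fusion.Tate.equivalences hS hF hHsat hHF).1
  -- a map to `C_p` killing the focal subgroup of the normalizer but not that of `F`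
  set Wb : Subgroup S := frattini ↥S ⊔ H.focalSubgroup.subgroupOf S with hWb
  obtain ⟨y₀, hy₀F, hy₀⟩ : ∃ y : S, (y : Ω) ∈ F.focalSubgroup ∧ y ∉ Wb := by
    by_contra! hcon
    refine hne ?_
    rw [← hHfoc]
    refine (hT.1 (le_antisymm (sup_le le_sup_left ?_) (sup_le le_sup_left ?_))).symm
    · intro z hz
      have h1 := Subgroup.mem_map_of_mem S.subtype (hcon ⟨z, focal_le F hz⟩ hz)
      rw [hWb, Subgroup.map_sup, Subgroup.map_subgroupOf_eq_of_le (focal_le H)] at h1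
      exact h1
    · refine le_trans ?_ le_sup_right
      refine (Subgroup.closure_le _).2 ?_
      rintro _ ⟨P, φ, x, hφ, rfl⟩
      exact Subgroup.subset_closure ⟨P, φ, x, hHF P hφ, rfl⟩
  obtain ⟨lam, hlamW, hlam₀⟩ := exists_hom_of_not_mem hS le_sup_left hy₀
  have hlamH : ∀ (φ : S →* Ω) (hφ : φ ∈ F.Hom S) (y : S), lam ⟨φ y, map_mem hφ y⟩ = lam y := by
    intro φ hφ y
    have hSN : S ≤ normalizerIn S S := (normalizerIn_top S).ge
    have hφN : φ ∈ N.Hom S := by
      rw [hN S]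
      refine ⟨hφ, hSN, fun x => hSN (map_mem hφ x), _, restrict_mem hφ (sup_le le_rfl le_rfl),
        fun x => rfl, ?_⟩
      refine le_antisymm ?_ fun z hz => ?_
      · rintro _ ⟨x, -, rfl⟩
        exact map_mem hφ _
      · have hr : φ.range = S := range_eq_of_le (hom_inj hφ) (map_mem hφ)
        obtain ⟨x, rfl⟩ : z ∈ φ.range := hr.symm ▸ hz
        exact ⟨⟨x, Subgroup.mem_sup_left x.2⟩, x.2, rfl⟩
    have h1 : y⁻¹ * ⟨φ y, map_mem hφ y⟩ ∈ Wb := Subgroup.mem_sup_right
      (Subgroup.subset_closure ⟨S, φ, y, hφN, rfl⟩ : (y : Ω)⁻¹ * φ y ∈ H.focalSubgroup)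
    have h2 := hlamW h1
    rw [MonoidHom.mem_ker, map_mul, map_inv, inv_mul_eq_one] at h2
    exact h2.symm
  obtain ⟨x, ⟨hxF, hxl⟩, hmin⟩ := Set.exists_min_image
    {s : S | (s : Ω) ∈ F.focalSubgroup ∧ lam s ≠ 1} (fun s => orderOf s) (Set.toFinite _)
    ⟨y₀, hy₀F, hlam₀⟩
  -- the biset and the coordinates
  obtain ⟨d⟩ := exists_data (lam := (1 : S →* Multiplicative (ZMod p))) hS hF (fun _ _ _ _ => rfl)
    (fun a => Multiplicative.toAdd.injective (by simp))
  let : Fintype d.Orb := Fintype.ofFinite _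
  let R : d.Orb → GSet d.c := Quotient.out
  have hR : ∀ o, d.orb (R o) = o := fun o => Quotient.out_eq o
  have hrel : ∀ (g : d.Perms) (o : d.Orb), ∃ b : S,
      (g : Equiv.Perm (GSet d.c)) (R o) = ((1, b) : S × S) • R (g • o) := by
    intro g o
    have h : d.orb (R (g • o)) = d.orb ((g : Equiv.Perm (GSet d.c)) (R o)) := by
      rw [← d.smul_orb, hR, hR]
    obtain ⟨b, hb⟩ := Quotient.exact h
    exact ⟨b, hb.symm⟩
  choose e he using hrel
  have huniq : ∀ (o : d.Orb) (b b' : S), ((1, b) : S × S) • R o = ((1, b') : S × S) • R o → b = b' := by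
    intro o b b' h
    have h1 : ((1, b'⁻¹ * b) : S × S) • R o = R o := by
      rw [show ((1, b'⁻¹ * b) : S × S) = (1, b')⁻¹ * (1, b) by simp, mul_smul, h, inv_smul_smul]
    exact (inv_mul_eq_one.1 (d.free h1)).symm
  have hemul : ∀ (g g' : d.Perms) (o : d.Orb), e (g * g') o = e g' o * e g (g' • o) := by
    intro g g' o
    refine huniq ((g * g') • o) _ _ ?_
    rw [← he]
    show (g : Equiv.Perm (GSet d.c)) ((g' : Equiv.Perm (GSet d.c)) (R o)) = _
    rw [he g' o, d.comm_right, he g (g' • o), mul_smul g g', smul_smul, Prod.mk_mul_mk, one_mul]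
  let cc : d.Perms → d.Orb → Multiplicative (ZMod p) := fun g o => (lam (e g o))⁻¹
  have hcc : ∀ g g' o, cc (g * g') o = cc g (g' • o) * cc g' o := fun g g' o => by
    simp only [cc, hemul, map_mul, mul_inv, mul_comm]
  let T : d.Perms →* Multiplicative (ZMod p) :=
    MonoidHom.mk' (fun g => ∏ o, cc g o) fun g g' => by
      simp only [hcc, Finset.prod_mul_distrib]
      congr 1
      exact Fintype.prod_bijective (g' • ·) (MulAction.bijective g') _ _ fun _ => rfl
  let V : S →* Multiplicative (ZMod p) := T.comp (leftHom d.c)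
  have hV : F.focalSubgroup ≤ V.ker.map S.subtype := by
    refine (Subgroup.closure_le _).2 ?_
    rintro _ ⟨P, φ, y, hφ, rfl⟩
    obtain ⟨g, hg⟩ := d.exists_inter hφ
    refine ⟨⟨(y : Ω), dom_le hφ y.2⟩⁻¹ * ⟨φ y, map_mem hφ y⟩, ?_, rfl⟩
    rw [SetLike.mem_coe, MonoidHom.mem_ker, map_mul, map_inv, inv_mul_eq_one]
    have h1 := congrArg T (hg y (dom_le hφ y.2) (map_mem hφ y))
    rw [map_mul, map_mul, mul_comm (T g)] at h1
    exact (mul_right_cancel h1).symm
  let : MulAction S d.Orb := MulAction.compHom _ (leftHom d.c)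
  have hsmul : ∀ (s : S) (o : d.Orb), s • o = leftHom d.c s • o := fun _ _ => rfl
  let c : S → d.Orb → Multiplicative (ZMod p) := fun s o => cc (leftHom d.c s) o
  -- stabilizers are graphs
  have hgraph : ∀ (s : S) (o : d.Orb), s • o = o →
      ∃ (P : Subgroup Ω) (φ : P →* Ω) (z : P) (hz : (z : Ω) ∈ S),
        φ ∈ F.Hom P ∧ φ z = (s : Ω) ∧ c s o = lam ⟨z, hz⟩ ∧
        ∀ w ∈ stabilizer (S × S) (R o), ∃ h : (w.2 : Ω) ∈ P, φ ⟨(w.2 : Ω), h⟩ = (w.1 : Ω) := by
    intro s o hso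
    have h1 := he (leftHom d.c s) o
    rw [← hsmul, hso] at h1
    change ((s, 1) : S × S) • R o = _ at h1
    obtain ⟨P, φ, hφ, hg⟩ := stabilizer_gset_mem F d.mem (R o)
    have hmem : ((s, (e (leftHom d.c s) o)⁻¹) : S × S) ∈ stabilizer (S × S) (R o) := by
      rw [mem_stabilizer_iff, show ((s, (e (leftHom d.c s) o)⁻¹) : S × S) =
        (1, (e (leftHom d.c s) o)⁻¹) * (s, 1) by simp, mul_smul, h1, smul_smul]
      simp [Prod.mk_one_one]
    obtain ⟨hP, hv⟩ := hg _ hmem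
    refine ⟨P, φ, ⟨_, hP⟩, ((e (leftHom d.c s) o)⁻¹ : S).2, hφ, hv, ?_, fun w hw => hg w hw⟩
    show (lam (e (leftHom d.c s) o))⁻¹ = lam ((e (leftHom d.c s) o)⁻¹)
    rw [map_inv]
  refine exists_wreath_of_cocycle hS c (fun a b o => ?_) x (lam x) hxl ?_ ?_ ?_ d.not_dvd_card_orb
  · show cc (leftHom d.c (a * b)) o = _
    rw [map_mul, hcc]
    rfl
  · intro o ho
    obtain ⟨P, φ, z, hz, hφ, hφz, hc, hst⟩ := hgraph x o (ho x)
    have hPS : P = S := by
      refine le_antisymm (dom_le hφ) ?_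
      have : Finite P := finite_of_le (dom_le hφ)
      have hsub : S ≤ φ.range := fun a ha => by
        obtain ⟨P', φ', z', hz', hφ', hφz', hc', hst'⟩ := hgraph ⟨a, ha⟩ o (ho _)
        obtain ⟨b, hb⟩ := Quotient.exact (s := d.rightRel)
          (show d.orb (R o) = d.orb (((⟨a, ha⟩, 1) : S × S) • R o) from
            (hR o).trans ((ho ⟨a, ha⟩).symm.trans (congrArg (leftHom d.c ⟨a, ha⟩ • ·) (hR o).symm)))
        have hmem : ((⟨a, ha⟩, b⁻¹) : S × S) ∈ stabilizer (S × S) (R o) := by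
          rw [mem_stabilizer_iff, show ((⟨a, ha⟩, b⁻¹) : S × S) = (1, b⁻¹) * (⟨a, ha⟩, 1) by simp,
            mul_smul, ← hb, smul_smul]
          simp [Prod.mk_one_one]
        obtain ⟨h, hv⟩ := hst _ hmem
        exact ⟨_, hv⟩
      have h1 : Nat.card φ.range = Nat.card P :=
        (Nat.card_congr (MonoidHom.ofInjective (hom_inj hφ)).toEquiv).symm
      have : Finite φ.range := Finite.of_surjective _ φ.rangeRestrict_surjective
      have h2 : Nat.card S ≤ Nat.card P := h1 ▸ Subgroup.card_le_of_le hsub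
      exact (Subgroup.eq_of_le_of_card_ge (dom_le hφ) h2).ge
    subst hPS
    rw [hc]
    rw [← hlamH φ hφ z]
    exact congrArg lam (Subtype.ext hφz)
  · intro o hmove n hn
    obtain ⟨P, φ, z, hz, hφ, hφz, hc, -⟩ := hgraph (x ^ n) o hn
    rw [hc]
    by_contra hl
    have hzF : (z : Ω) ∈ F.focalSubgroup := focal_mem_of_map_mem hφ z (hφz ▸ by
      rw [SubmonoidClass.coe_pow]; exact pow_mem hxF n)
    have h1 := hmin ⟨z, hz⟩ ⟨hzF, hl⟩
    have h2 : orderOf (⟨(z : Ω), hz⟩ : S) = orderOf (x ^ n) := by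
      rw [← Subgroup.orderOf_coe (x ^ n), ← hφz, orderOf_injective φ (hom_inj hφ) z,
        ← Subgroup.orderOf_coe, ← Subgroup.orderOf_coe z]
    simp only [h2] at h1
    have h3 := Subgroup.eq_of_le_of_card_ge (Subgroup.zpowers_le.2
      (pow_mem (Subgroup.mem_zpowers x) n)) (by rwa [Nat.card_zpowers, Nat.card_zpowers])
    obtain ⟨m, hm⟩ := Subgroup.mem_zpowers_iff.1 (h3 ▸ Subgroup.mem_zpowers x :
      x ∈ Subgroup.zpowers (x ^ n))
    refine hmove ?_
    rw [← hm, ← mem_stabilizer_iff]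
    exact zpow_mem (mem_stabilizer_iff.2 hn) m
  · rw [finprod_eq_prod_of_fintype]
    obtain ⟨w, hw, hwx⟩ := hV hxF
    rw [Subtype.ext hwx] at hw
    exact hw

end CfsgLib.Yoshida
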