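import Cfsg.Agent.Lib.Yoshida.Cocycle
import Cfsg.Prelude.Def_Transfer
import Mathlib.Algebra.Group.ForwardDiff
import Mathlib.Data.Nat.Choose.Dvd
import Mathlib.FieldTheory.Finite.Basic

/-!
# Transfer controlled by a weakly closed subgroup

If `N_G(W)` does not control transfer, `W` the weakly closed subgroup of `S`, then some iterated
commutator `[x, z; p - 1]` lies in a maximal subgroup `W₀` of `W` and outside `Φ(W₀)`.
-/

set_option autoImplicit false

namespace CfsgLib.Yoshida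

open Cfsg MulAction Subgroup Finset

variable {p : ℕ} [hp : Fact p.Prime]

/-- `binom(p-1,k)` is `(-1)^k` modulo `p`. -/
theorem choose_sub_one_cast (k : ℕ) (hk : k ≤ p - 1) :
    ((p - 1).choose k : ZMod p) = (-1) ^ k := by
  induction k with
  | zero => simp
  | succ k ih =>
    have h1 : (p.choose (k + 1) : ZMod p) = 0 :=
      (ZMod.natCast_eq_zero_iff_dvd_iff _ _).2 (Nat.Prime.dvd_choose_self hp.out (by omega) (by omega))
    have h2 : p.choose (k + 1) = (p - 1).choose k + (p - 1).choose (k + 1) := by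
      rw [← Nat.choose_succ_succ, Nat.succ_eq_add_one, Nat.sub_add_cancel hp.out.one_le]
    rw [h2, Nat.cast_add, ih (by omega)] at h1
    rw [pow_succ, mul_neg_one]
    exact eq_neg_of_add_eq_zero_right h1
where
  ZMod.natCast_eq_zero_iff_dvd_iff (a n : ℕ) : ((a : ZMod n) = 0 ↔ n ∣ a) :=
    (CharP.cast_eq_zero_iff (ZMod n) n a)

/-- The `(p-1)`-st difference is the sum over a period, modulo `p`. -/
theorem fwdDiff_sub_one (f : ℕ → ZMod p) (y : ℕ) :
    (fwdDiff 1)^[p - 1] f y = ∑ k ∈ range p, f (y + k) := by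
  rw [fwdDiff_iter_eq_sum_shift, Nat.sub_add_cancel hp.out.one_le]
  refine Finset.sum_congr rfl fun k hk => ?_
  rw [Finset.mem_range] at hk
  rw [nsmul_eq_mul, mul_one, Nat.cast_id, zsmul_eq_mul]
  push_cast
  rw [choose_sub_one_cast k (by omega), ← pow_add, Nat.sub_add_cancel (by omega),
    ZMod.pow_card_sub_one_eq_one (neg_ne_zero.2 one_ne_zero), one_mul]

/-- A product over the cosets of a normal subgroup of index `p` is an iterated commutator. -/
theorem exists_iterated_comm {T : Type*} [Group T] [Finite T] (Q : Subgroup T) [hQn : Q.Normal]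
    (hQ : Q.index = p) [Fintype (T ⧸ Q)] {z : T} (hz : z ∉ Q) (ν : Q →* Multiplicative (ZMod p))
    (x : Q) :
    ν ((fun q : Q => q⁻¹ * cj Q z q)^[p - 1] x) = ∏ a : T ⧸ Q, ν (cj Q a.out x) := by
  set F : Q → Q := fun q => q⁻¹ * cj Q z q with hF
  set b : ℕ → ℕ → ZMod p := fun k i => (ν (cj Q (z ^ i) (F^[k] x))).toAdd with hb
  have hstep : ∀ k, b (k + 1) = fwdDiff 1 (b k) := by
    intro k
    funext i
    show (ν (cj Q (z ^ i) (F^[k + 1] x))).toAdd = b k (i + 1) - b k i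
    rw [Function.iterate_succ_apply']
    set q := F^[k] x with hq
    have e : cj Q (z ^ i) (F q) = (cj Q (z ^ i) q)⁻¹ * cj Q (z ^ (i + 1)) q := by
      refine Subtype.ext ?_
      simp [hF, cj, pow_succ', mul_assoc]
    rw [e, map_mul, map_inv, toAdd_mul, toAdd_inv, neg_add_eq_sub]
  have hiter : ∀ k, b k = (fwdDiff 1)^[k] (b 0) := by
    intro k
    induction k with
    | zero => rfl
    | succ k ih => rw [hstep, ih, Function.iterate_succ_apply']
  have hord : orderOf (z : T ⧸ Q) = p := by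
    have hd : orderOf (z : T ⧸ Q) ∣ p := by
      have h := orderOf_dvd_natCard (z : T ⧸ Q)
      rwa [← Subgroup.index_eq_card, hQ] at h
    rcases (Nat.dvd_prime hp.out).1 hd with h | h
    · exact absurd ((QuotientGroup.eq_one_iff z).1 (orderOf_eq_one_iff.1 h)) hz
    · exact h
  let e : Fin p → T ⧸ Q := fun i => (z : T ⧸ Q) ^ (i : ℕ)
  have he : Function.Bijective e := by
    refine (Fintype.bijective_iff_injective_and_card e).2 ⟨fun i j h => ?_, ?_⟩
    · exact Fin.ext (pow_injOn_Iio_orderOf (x := (z : T ⧸ Q))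
        (Set.mem_Iio.2 (hord.symm ▸ i.2)) (Set.mem_Iio.2 (hord.symm ▸ j.2)) h)
    · rw [Fintype.card_fin, ← Nat.card_eq_fintype_card]; exact hQ.symm
  have h0 : b (p - 1) 0 = (ν (F^[p - 1] x)).toAdd := by
    show (ν (cj Q (z ^ 0) _)).toAdd = _
    congr 2
    exact Subtype.ext (by simp [cj])
  have h1 : b (p - 1) 0 = (∏ a : T ⧸ Q, ν (cj Q a.out x)).toAdd := by
    rw [hiter, fwdDiff_sub_one, ← Fin.sum_univ_eq_sum_range (fun k => b 0 (0 + k)), toAdd_prod]
    refine Fintype.sum_bijective e he _ _ fun i => ?_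
    show (ν (cj Q (z ^ (0 + (i : ℕ))) (F^[0] x))).toAdd = _
    rw [zero_add, Function.iterate_zero_apply]
    refine congrArg _ (nu_cj_congr Q ν ?_ x)
    rw [QuotientGroup.out_eq']
    simp [e]
  exact Multiplicative.toAdd.injective (h0.symm.trans h1)

theorem cocycle_shift {P : Type*} [Group P] {O : Type*} [MulAction P O] {A : Type*} [CommGroup A]
    {c : P → O → A} (hc : ∀ a b o, c (a * b) o = c a (b • o) * c b o) {s y : P} {o : O}
    (hy : (s⁻¹ * y * s) • o = o) : c y (s • o) = c (s⁻¹ * y * s) o := by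
  have h1 := hc y s o
  have h2 := hc s (s⁻¹ * y * s) o
  rw [show s * (s⁻¹ * y * s) = y * s by simp [mul_assoc], hy, h1, mul_comm] at h2
  exact mul_left_cancel h2

theorem isCoatom_of_prime_index {K : Type*} [Group K] [Finite K] {M : Subgroup K}
    (hM : M.index.Prime) : IsCoatom M := by
  refine ⟨fun h => hM.ne_one (by rw [h, Subgroup.index_top]), fun M' hlt => ?_⟩
  have h1 := Subgroup.relIndex_mul_index hlt.le
  rcases (Nat.prime_mul_iff.1 (h1.symm ▸ hM)) with ⟨-, h⟩ | ⟨-, h⟩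
  · exact Subgroup.index_eq_one.1 h
  · exact absurd (Subgroup.relIndex_eq_one.1 h) hlt.not_ge

theorem prod_quotient_congr {K : Type*} [Group K] {H₁ H₂ : Subgroup K} (e : H₁ = H₂)
    [Fintype (K ⧸ H₁)] [Fintype (K ⧸ H₂)] {A : Type*} [CommMonoid A] (F : K → A) :
    ∏ r : K ⧸ H₁, F r.out = ∏ r : K ⧸ H₂, F r.out := by
  subst e
  exact Finset.prod_congr (by ext; simp) fun _ _ => rfl

variable {G : Type*} [Group G]

/-- **Transfer and a weakly closed subgroup.** -/
theorem weakly_closed_iterated_commutator [Finite G] (S : Sylow p G) (W : Subgroup G)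
    (hW : Cfsg.IsWeaklyClosed W (S : Subgroup G))
    (h : (S : Subgroup G) ⊓ commutator G ≠
      (S : Subgroup G) ⊓ ⁅normalizer (W : Set G), normalizer (W : Set G)⁆) :
    ∃ x ∈ (S : Subgroup G), ∃ z ∈ W, ∃ W₀ : Subgroup ↥W, IsCoatom W₀ ∧
      (fun y : G => y⁻¹ * z⁻¹ * y * z)^[p - 1] x ∈ W₀.map W.subtype ∧
      (fun y : G => y⁻¹ * z⁻¹ * y * z)^[p - 1] x ∉
        ((frattini ↥W₀).map W₀.subtype).map W.subtype := by
  classical
  set N := normalizer (W : Set G) with hN
  have hmap : ∀ (g : G) (w : G), w ∈ W.map (MulAut.conj g).toMonoidHom ↔ g⁻¹ * w * g ∈ W := by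
    intro g w
    constructor
    · rintro ⟨v, hv, rfl⟩
      simpa [mul_assoc] using hv
    · intro h1
      exact ⟨_, h1, by simp [mul_assoc]⟩
  have hWN : ∀ g : G, (∀ w ∈ W, g * w * g⁻¹ ∈ (S : Subgroup G)) → g ∈ N := by
    intro g hg
    have h1 := hW.2 g (by rintro _ ⟨w, hw, rfl⟩; exact hg w hw)
    rw [hN, Subgroup.mem_normalizer_iff'']
    intro w
    conv_lhs => rw [← h1]
    exact hmap g w
  have hSN : (S : Subgroup G) ≤ N := fun s hs => hWN s fun w hw =>
    mul_mem (mul_mem hs (hW.1 hw)) (inv_mem hs)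
  obtain ⟨lam, x₀, hx₀S, hx₀R, hx₀l⟩ := exists_hom_of_not_control S N hSN h
  obtain ⟨x, ⟨hxR, hxl⟩, hmin⟩ := Set.exists_min_image
    {s : (S : Subgroup G) | (s : G) ∈ pResidual p G ∧ lam (Subgroup.inclusion hSN s) ≠ 1}
    (fun s => orderOf s) (Set.toFinite _) ⟨⟨x₀, hx₀S⟩, hx₀R, hx₀l⟩
  have hpR := (CfsgLib.Transfer.pResidual_normal (G := G) (p := p))
  let : Fintype (G ⧸ N) := Fintype.ofFinite _
  have hmem : ∀ (g : G) (q : G ⧸ N), (g • q).out⁻¹ * g * q.out ∈ N := by
    intro g q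
    rw [mul_assoc]
    refine QuotientGroup.eq.1 ?_
    rw [QuotientGroup.out_eq', ← smul_eq_mul, ← MulAction.Quotient.smul_mk, QuotientGroup.out_eq']
  let cc : G → G ⧸ N → Multiplicative (ZMod p) := fun g q => lam ⟨_, hmem g q⟩
  have hcc : ∀ a b q, cc (a * b) q = cc a (b • q) * cc b q := by
    intro a b q
    show lam _ = lam _ * lam _
    rw [← map_mul]
    refine congrArg lam (Subtype.ext ?_)
    simp [mul_smul, mul_assoc]
  let T : G →* Multiplicative (ZMod p) :=
    MonoidHom.mk' (fun g => ∏ q, cc g q) fun a b => by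
      simp only [hcc, Finset.prod_mul_distrib]
      congr 1
      exact Fintype.prod_bijective (b • ·) (MulAction.bijective b) _ _ fun _ => rfl
  let c : ↥(S : Subgroup G) → G ⧸ N → Multiplicative (ZMod p) := fun s q => cc s q
  have hc : ∀ (a b : (S : Subgroup G)) q, c (a * b) q = c a (b • q) * c b q := fun a b q => hcc a b q
  have hconjS : ∀ y : N, (∃ k, (y : G) ^ p ^ k = 1) →
      ∃ n : N, (n : G) * y * (n : G)⁻¹ ∈ (S : Subgroup G) := by
    rintro y ⟨k, hk⟩
    let S' : Sylow p N := S.subtype hSN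
    have hy : IsPGroup p (Subgroup.zpowers y) := by
      obtain ⟨i, -, hi⟩ := (Nat.dvd_prime_pow hp.out).1 (orderOf_dvd_of_pow_eq_one
        (show y ^ p ^ k = 1 from Subtype.ext (by simpa using hk)))
      exact IsPGroup.of_card (n := i) (by rw [Nat.card_zpowers, hi])
    obtain ⟨Q, hQ⟩ := hy.exists_le_sylow
    obtain ⟨n, hn⟩ := MulAction.exists_smul_eq N Q S'
    refine ⟨n, ?_⟩
    have h1 : n * y * n⁻¹ ∈ (S' : Subgroup N) := by
      rw [← hn, Sylow.coe_subgroup_smul]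
      exact Subgroup.smul_mem_pointwise_smul y (MulAut.conj n) _ (hQ (Subgroup.mem_zpowers y))
    exact h1
  have hmov : ∀ o : G ⧸ N, x • o ≠ o → ∀ n : ℕ, x ^ n • o = o → c (x ^ n) o = 1 := by
    intro o ho n hn
    by_contra hne
    have hn' : ((x : G) ^ n) • o = o := hn
    have hmem' : o.out⁻¹ * (x : G) ^ n * o.out ∈ N := by
      have h1 := hmem ((x : G) ^ n) o
      rwa [hn'] at h1
    have hval : c (x ^ n) o = lam ⟨_, hmem'⟩ := by
      show lam _ = lam _
      refine congrArg lam (Subtype.ext ?_)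
      show (((x ^ n : (S : Subgroup G)) : G) • o).out⁻¹ * ((x ^ n : (S : Subgroup G)) : G) * o.out = _
      rw [SubmonoidClass.coe_pow, hn']
    obtain ⟨k, hk⟩ := S.2 (x ^ n)
    obtain ⟨m, hm⟩ := hconjS ⟨_, hmem'⟩ ⟨k, by
      have h1 := conj_pow (i := p ^ k) (a := (o.out : G)⁻¹) (b := (x : G) ^ n)
      rw [inv_inv] at h1
      show (o.out⁻¹ * (x : G) ^ n * o.out) ^ p ^ k = 1
      rw [h1, show ((x : G) ^ n) ^ p ^ k = 1 by simpa using congrArg Subtype.val hk]
      simp⟩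
    have hR' : (m : G) * (o.out⁻¹ * (x : G) ^ n * o.out) * (m : G)⁻¹ ∈ pResidual p G :=
      hpR.conj_mem _ (hpR.conj_mem' _ (pow_mem hxR n) _) _
    have h1 := hmin ⟨_, hm⟩ ⟨hR', by
      have e : Subgroup.inclusion hSN ⟨_, hm⟩ = m * ⟨_, hmem'⟩ * m⁻¹ := Subtype.ext rfl
      rwa [e, map_mul, map_mul, map_inv, mul_comm, inv_mul_cancel_left, ← hval]⟩
    have h2 : orderOf (⟨_, hm⟩ : (S : Subgroup G)) = orderOf (x ^ n) := by
      rw [← Subgroup.orderOf_coe, ← Subgroup.orderOf_coe (x ^ n)]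
      have h3 := (MulAut.conj ((m : G) * o.out⁻¹)).orderOf_eq ((x : G) ^ n)
      simpa [mul_assoc] using h3
    simp only [h2] at h1
    have h3 := Subgroup.eq_of_le_of_card_ge (Subgroup.zpowers_le.2
      (pow_mem (Subgroup.mem_zpowers x) n)) (by rwa [Nat.card_zpowers, Nat.card_zpowers])
    obtain ⟨j, hj⟩ := Subgroup.mem_zpowers_iff.1 (h3 ▸ Subgroup.mem_zpowers x :
      x ∈ Subgroup.zpowers (x ^ n))
    refine ho ?_
    rw [← hj, ← mem_stabilizer_iff]
    exact zpow_mem (mem_stabilizer_iff.2 hn) j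
  -- `W` fixes only the base point
  let W' : Subgroup (S : Subgroup G) := W.subgroupOf S
  have : W'.Normal := ⟨fun w hw s => by
    have h1 := Subgroup.mem_normalizer_iff.1 (hSN s.2) w
    exact h1.1 hw⟩
  have hfixW : ∀ q : G ⧸ N, (∀ w : (S : Subgroup G), w ∈ W' → w • q = q) → q.out ∈ N := by
    intro q hq
    set g := q.out with hg
    have hconj : ∀ w ∈ W, g⁻¹ * w * g ∈ N := by
      intro w hw
      have h1 := hmem w q
      rwa [show w • q = q from hq ⟨w, hW.1 hw⟩ hw] at h1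
    let V : Subgroup N := (W.map (MulAut.conj g⁻¹).toMonoidHom).subgroupOf N
    have hV : IsPGroup p V := ((S.2.to_le hW.1).map _).comap_subtype
    obtain ⟨Q, hQ⟩ := hV.exists_le_sylow
    obtain ⟨n, hn⟩ := MulAction.exists_smul_eq N Q (S.subtype hSN)
    have h1 : (n : G) * g⁻¹ ∈ N := by
      refine hWN _ fun w hw => ?_
      have h2 : n * ⟨_, hconj w hw⟩ * n⁻¹ ∈ ((S.subtype hSN : Sylow p N) : Subgroup N) := by
        rw [← hn, Sylow.coe_subgroup_smul]
        refine Subgroup.smul_mem_pointwise_smul _ (MulAut.conj n) _ (hQ ?_)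
        exact Subgroup.mem_subgroupOf.2 ⟨w, hw, by simp⟩
      have h3 : (n : G) * (g⁻¹ * w * g) * (n : G)⁻¹ ∈ (S : Subgroup G) := h2
      simpa [mul_assoc] using h3
    have h2 := mul_mem (inv_mem n.2) h1
    rw [inv_mul_cancel_left] at h2
    simpa using inv_mem h2
  have hfix : ∀ q : G ⧸ N, (∀ s : (S : Subgroup G), s • q = q) →
      c x q = lam (Subgroup.inclusion hSN x) := by
    intro q hq
    have hqN := hfixW q fun w _ => hq w
    have e : (⟨_, hmem (x : G) q⟩ : N) =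
        (⟨q.out, hqN⟩ : N)⁻¹ * Subgroup.inclusion hSN x * ⟨q.out, hqN⟩ := by
      refine Subtype.ext ?_
      show ((x : G) • q).out⁻¹ * (x : G) * q.out = _
      rw [show (x : G) • q = q from hq x]
      rfl
    show lam _ = _
    rw [e, map_mul, map_mul, map_inv, mul_comm, mul_inv_cancel_left]
  have htotal : ∏ᶠ q, c x q = 1 := by
    rw [finprod_eq_prod_of_fintype]
    exact CfsgLib.Transfer.pResidual_le_ker_of_isPGroup (IsPGroup.of_card (n := 1) (by simp)) T hxR
  obtain ⟨o₀, hns, hne⟩ := exists_bad_orbit S.2 c hc x _ hxl hfix hmov htotal (fun hd =>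
    S.not_dvd_index (hd.trans (Subgroup.index_dvd_of_le hSN)))
  set R := stabilizer (S : Subgroup G) o₀ with hR
  set T₀ : Subgroup (S : Subgroup G) := R ⊔ W' with hT₀
  -- `W` moves `o₀`
  have hWR : ¬ W' ≤ R := by
    intro hle
    refine hns ((Subgroup.eq_top_iff' _).2 fun s => ?_)
    have h1 := hfixW o₀ fun w hw => mem_stabilizer_iff.1 (hle hw)
    have h2 : o₀ = ((1 : G) : G ⧸ N) := by
      rw [← QuotientGroup.out_eq' o₀]
      exact QuotientGroup.eq.2 (by simpa using h1)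
    rw [mem_stabilizer_iff, h2]
    show ((s : G) * 1 : G) = ((1 : G) : G ⧸ N)
    exact QuotientGroup.eq.2 (by simpa using hSN s.2)
  let : Fintype ((S : Subgroup G) ⧸ R) := Fintype.ofFinite _
  let : Fintype ((S : Subgroup G) ⧸ T₀) := Fintype.ofFinite _
  let : Fintype (T₀ ⧸ R.subgroupOf T₀) := Fintype.ofFinite _
  set hh : G ⧸ N → Multiplicative (ZMod p) := fun o => if x • o = o then c x o else 1 with hhh
  obtain ⟨a, ha⟩ : ∃ a : (S : Subgroup G) ⧸ T₀,
      (∏ t : T₀ ⧸ R.subgroupOf T₀, hh ((a.out * t.out) • o₀)) ≠ 1 := by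
    by_contra! hcon
    refine hne ?_
    rw [← (Subgroup.quotientEquivProdOfLE (le_sup_left : R ≤ T₀)).symm.prod_comp,
      Fintype.prod_prod_type]
    refine Finset.prod_eq_one fun a _ => (Finset.prod_congr rfl fun t _ => ?_).trans (hcon a)
    have hw : (Subgroup.quotientEquivProdOfLE (le_sup_left : R ≤ T₀)).symm (a, t) =
        ((a.out * t.out : (S : Subgroup G)) : (S : Subgroup G) ⧸ R) := by
      conv_lhs => rw [← QuotientGroup.out_eq' t]
      rfl
    rw [hw]
    obtain ⟨r, hr, hre⟩ : ∃ r ∈ R, ((a.out * t.out : (S : Subgroup G)) :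
        (S : Subgroup G) ⧸ R).out = a.out * t.out * r :=
      ⟨_, QuotientGroup.eq.1 (QuotientGroup.out_eq' _).symm, (mul_inv_cancel_left _ _).symm⟩
    rw [hre, mul_smul (a.out * (t.out : (S : Subgroup G))) r, mem_stabilizer_iff.1 hr]
    simp only [hhh]
    congr 1
  set s := a.out with hs
  have hfixiff : ∀ o : G ⧸ N, x • s • o = s • o ↔ (s⁻¹ * x * s) • o = o := by
    intro o
    rw [mul_smul, mul_smul, inv_smul_eq_iff]
  have hx'T : s⁻¹ * x * s ∈ T₀ := by
    by_contra hx'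
    refine ha (Finset.prod_eq_one fun t _ => ?_)
    simp only [hhh]
    rw [if_neg]
    intro h1
    have h2 : (t.out : (S : Subgroup G))⁻¹ * (s⁻¹ * x * s) * t.out ∈ R := by
      refine mem_stabilizer_iff.2 ?_
      rw [mul_smul, mul_smul, inv_smul_eq_iff]
      rw [mul_smul, hfixiff] at h1
      exact h1
    have h3 := T₀.mul_mem (T₀.mul_mem t.out.2 ((le_sup_left : R ≤ T₀) h2)) (T₀.inv_mem t.out.2)
    exact hx' (by simpa [mul_assoc] using h3)
  set x' : T₀ := ⟨s⁻¹ * x * s, hx'T⟩ with hx'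
  let cT : T₀ → G ⧸ N → Multiplicative (ZMod p) := fun t o => c t o
  have hmov' : ∀ o, x' • o ≠ o → ∀ n : ℕ, x' ^ n • o = o → cT (x' ^ n) o = 1 := by
    intro o ho n hn
    have h1 : ((x' ^ n : T₀) : (S : Subgroup G)) = s⁻¹ * x ^ n * s := by
      have h2 := conj_pow (i := n) (a := s⁻¹) (b := x)
      rw [inv_inv] at h2
      rw [SubmonoidClass.coe_pow]
      exact h2
    have h2 : (s⁻¹ * x ^ n * s) • o = o := h1 ▸ hn
    show c _ o = 1
    rw [h1, ← cocycle_shift hc h2]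
    refine hmov _ (fun h3 => ho ((hfixiff o).1 h3)) n ?_
    rwa [mul_smul, mul_smul, inv_smul_eq_iff] at h2
  have hne' : ∀ [Fintype (T₀ ⧸ stabilizer T₀ o₀)], (∏ r : T₀ ⧸ stabilizer T₀ o₀,
      if x' • r.out • o₀ = r.out • o₀ then cT x' (r.out • o₀) else 1) ≠ 1 := by
    intro inst
    rw [prod_quotient_congr (show stabilizer T₀ o₀ = R.subgroupOf T₀ from rfl)
      (fun r : T₀ => if x' • r • o₀ = r • o₀ then cT x' (r • o₀) else 1)]
    intro hcon
    refine ha (Eq.trans (Finset.prod_congr rfl fun t _ => ?_) hcon)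
    show hh ((s * t.out) • o₀) = _
    simp only [hhh, mul_smul]
    have h3 := hfixiff (t.out • o₀)
    by_cases h4 : x' • t.out • o₀ = t.out • o₀
    · have h5 : x • s • ((t.out : T₀) : (S : Subgroup G)) • o₀ =
          s • ((t.out : T₀) : (S : Subgroup G)) • o₀ := h3.2 h4
      rw [if_pos h4, if_pos h5]
      exact cocycle_shift hc h4
    · have h5 : ¬ x • s • ((t.out : T₀) : (S : Subgroup G)) • o₀ =
          s • ((t.out : T₀) : (S : Subgroup G)) • o₀ := fun h6 => h4 (h3.1 h6)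
      rw [if_neg h4, if_neg h5]
  have hTp : IsPGroup p T₀ := S.2.to_subgroup T₀
  have hRT : stabilizer T₀ o₀ ≠ ⊤ := fun h1 => hWR fun w hw => by
    have h2 := mem_stabilizer_iff.1 (h1 ▸ Subgroup.mem_top (⟨w, le_sup_right (a := R) hw⟩ : T₀))
    exact mem_stabilizer_iff.2 h2
  obtain ⟨Q, hQc, hRQ⟩ := (eq_top_or_exists_le_coatom _).resolve_left hRT
  obtain ⟨hQn, hQi⟩ := coatom_normal_index hTp hQc
  let : Fintype (T₀ ⧸ Q) := Fintype.ofFinite _
  obtain ⟨hxQ, ν, hν⟩ := orbit_transfer cT (fun a b o => hc a b o) x' hmov' o₀ Q hRQ (fun {_} => by convert! hne')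
  let ι : W →* T₀ := MonoidHom.mk'
    (fun w => ⟨⟨w, hW.1 w.2⟩, Subgroup.mem_sup_right w.2⟩) fun _ _ => rfl
  -- `W` is not inside `Q`
  obtain ⟨z, hz⟩ : ∃ z : W, ι z ∉ Q := by
    by_contra! hall
    refine hQc.1 (top_le_iff.1 ?_)
    have h1 : T₀ ≤ Q.map T₀.subtype := sup_le
      (fun r hr => ⟨⟨r, le_sup_left (b := W') hr⟩, hRQ hr, rfl⟩)
      (fun w hw => ⟨ι ⟨(w : G), hw⟩, hall _, rfl⟩)
    rintro ⟨t, ht⟩ -
    obtain ⟨t', ht', hte⟩ := h1 ht
    exact (Subtype.ext hte : t' = ⟨t, ht⟩) ▸ ht'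
  rw [← exists_iterated_comm Q hQi hz ν ⟨x', hxQ⟩] at hν
  set F : Q → Q := fun q => q⁻¹ * cj Q (ι z) q with hF
  set fG : G → G := fun y => y⁻¹ * (z : G)⁻¹ * y * (z : G) with hfG
  have hiter : ∀ k, ((((F^[k] ⟨x', hxQ⟩ : Q) : T₀) : (S : Subgroup G)) : G) =
      fG^[k] ((x' : (S : Subgroup G)) : G) := by
    intro k
    induction k with
    | zero => rfl
    | succ k ih =>
      rw [Function.iterate_succ_apply', Function.iterate_succ_apply', ← ih]
      simp [hF, hfG, cj, ι, mul_assoc]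
  have hyW : fG^[p - 1] ((x' : (S : Subgroup G)) : G) ∈ W := by
    obtain ⟨j, hj⟩ : ∃ j, p - 1 = j + 1 := ⟨p - 2, by have := hp.out.two_le; omega⟩
    rw [hj, Function.iterate_succ_apply']
    set y := fG^[j] ((x' : (S : Subgroup G)) : G) with hy
    have hyS : y ∈ (S : Subgroup G) := by
      rw [hy, ← hiter j]
      exact (((F^[j] ⟨x', hxQ⟩ : Q) : T₀) : (S : Subgroup G)).2
    exact W.mul_mem ((Subgroup.mem_normalizer_iff''.1 (hSN hyS) _).1 (W.inv_mem z.2)) z.2
  refine ⟨_, ((x' : T₀) : (S : Subgroup G)).2, z, z.2, Q.comap ι, ?_, ?_, ?_⟩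
  · refine isCoatom_of_prime_index ?_
    have hdvd : (Q.comap ι).index ∣ p := by
      have h0 := Subgroup.relIndex_dvd_index_of_normal Q ι.range
      rw [hQi] at h0
      rwa [Subgroup.index_comap]
    rcases (Nat.dvd_prime hp.out).1 hdvd with h1 | h1
    · exact absurd ((Subgroup.index_eq_one.1 h1).ge (Subgroup.mem_top z)) hz
    · rw [h1]; exact hp.out
  · refine ⟨⟨_, hyW⟩, ?_, rfl⟩
    have e : ι ⟨_, hyW⟩ = ((F^[p - 1] ⟨x', hxQ⟩ : Q) : T₀) :=
      Subtype.ext (Subtype.ext (hiter (p - 1)).symm)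
    show ι _ ∈ Q
    rw [e]
    exact SetLike.coe_mem _
  · rintro ⟨w, ⟨w₀, hw₀, rfl⟩, hwe⟩
    let μ : ↥(Q.comap ι) →* Multiplicative (ZMod p) :=
      ν.comp ((ι.comp (Q.comap ι).subtype).codRestrict Q fun w => w.2)
    refine hν ?_
    have e : (F^[p - 1] ⟨x', hxQ⟩) = (ι.comp (Q.comap ι).subtype).codRestrict Q (fun w => w.2) w₀ :=
      Subtype.ext (Subtype.ext (Subtype.ext ((hiter (p - 1)).trans hwe.symm)))
    rw [e]
    show μ w₀ = 1
    by_contra hμ
    have hker : IsCoatom μ.ker := by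
      refine isCoatom_of_prime_index ?_
      rw [Subgroup.index_ker]
      have h1 : Nat.card μ.range ∣ p := by
        simpa using Subgroup.card_subgroup_dvd_card μ.range
      rcases (Nat.dvd_prime hp.out).1 h1 with h2 | h2
      · exact absurd (Subgroup.mem_bot.1 (Subgroup.eq_bot_of_card_eq _ h2 ▸
          (⟨w₀, rfl⟩ : μ w₀ ∈ μ.range))) hμ
      · rw [h2]; exact hp.out
    exact hμ (frattini_le_coatom hker hw₀)

end CfsgLib.Yoshida
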