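import Mathlib.Algebra.MonoidAlgebra.Basic
import Mathlib.Algebra.CharP.Lemmas
import Mathlib.Algebra.CharP.Algebra
import Mathlib.Data.ZMod.Basic
import Mathlib.FieldTheory.Finite.Basic
import Mathlib.Algebra.BigOperators.Group.Finset.Basic
import Mathlib.GroupTheory.Sylow
import Mathlib.GroupTheory.SpecificGroups.Cyclic
import Mathlib.GroupTheory.GroupAction.Quotient
import Mathlib.GroupTheory.Perm.ViaEmbedding
import Mathlib.Data.Nat.Choose.Factorization

/-!
# A criterion for `C_p ≀ C_p` to be an image of a `p`-group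

`Q` is normal of index `p` in `P`, `ν : Q → C_p` a homomorphism and some `z ∈ Q` has
`∏_{s ∈ P/Q} ν(s⁻¹ z s) ≠ 1`.  Then the permutation action of `P` on the cosets of `ker ν` has
image a Sylow subgroup of `Sym(p²)`, because an element of the group algebra `F_p[C_p]` of nonzero
augmentation is a unit.
-/

set_option autoImplicit false

namespace CfsgLib.Yoshida

open Finset

variable {p : ℕ} [hp : Fact p.Prime]

abbrev CycAlg (p : ℕ) : Type := AddMonoidAlgebra (ZMod p) (ZMod p)

/-- A sum of monomials raised to the `p`-th power is its augmentation. -/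
theorem sum_single_pow_char (a : ZMod p → ZMod p) :
    (∑ i, AddMonoidAlgebra.single i (a i) : CycAlg p) ^ p =
      AddMonoidAlgebra.single 0 (∑ i, a i) := by
  have : CharP (CycAlg p) p :=
    charP_of_injective_ringHom (f := AddMonoidAlgebra.singleZeroRingHom)
      (fun _ _ h => AddMonoidAlgebra.single_right_inj.1 h) p
  have : ExpChar (CycAlg p) p := ExpChar.prime hp.out
  rw [sum_pow_char p]
  simp_rw [AddMonoidAlgebra.single_pow]
  have h : ∀ i : ZMod p, p • i = 0 := fun i => by simp [nsmul_eq_mul]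
  simp_rw [h, ZMod.pow_card]
  exact (map_sum (AddMonoidAlgebra.singleAddHom (0 : ZMod p)) a univ).symm

theorem factorization_factorial_sq : ((p ^ 2).factorial).factorization p = p + 1 := by
  rw [pow_two, Nat.factorization_factorial_mul hp.out]
  have := Nat.factorization_factorial_mul (n := 1) hp.out
  rw [mul_one] at this
  rw [this]
  simp [add_comm]

variable {P : Type*} [Group P] (Q : Subgroup P) [hQn : Q.Normal]

/-- Conjugation into a normal subgroup. -/
def cj (s : P) (q : Q) : Q := ⟨s⁻¹ * q * s, hQn.conj_mem' q q.2 s⟩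

theorem cj_mul (s : P) (a b : Q) : cj Q s (a * b) = cj Q s a * cj Q s b :=
  Subtype.ext (by simp [cj, mul_assoc])

theorem cj_cj (s t : P) (q : Q) : cj Q t (cj Q s q) = cj Q (s * t) q :=
  Subtype.ext (by simp [cj, mul_assoc])

variable {A : Type*} [CommGroup A] (ν : Q →* A)

theorem nu_cj_congr {s t : P} (h : (s : P ⧸ Q) = t) (q : Q) : ν (cj Q s q) = ν (cj Q t q) := by
  obtain ⟨r, hr, rfl⟩ : ∃ r ∈ Q, t = s * r :=
    ⟨s⁻¹ * t, QuotientGroup.eq.1 h, (mul_inv_cancel_left s t).symm⟩
  have e : cj Q (s * r) q = (⟨r, hr⟩ : Q)⁻¹ * cj Q s q * ⟨r, hr⟩ :=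
    Subtype.ext (by simp [cj, mul_assoc])
  rw [e, map_mul, map_mul, map_inv, mul_comm, mul_inv_cancel_left]

/-- The criterion. -/
theorem exists_wreath_image [Finite P] (hP : IsPGroup p P) (hQ : Q.index = p)
    (ν : Q →* Multiplicative (ZMod p)) [Fintype (P ⧸ Q)] (z : Q)
    (hz : (∏ a : P ⧸ Q, ν (cj Q a.out z)) ≠ 1) :
    ∃ (W : Sylow p (Equiv.Perm (Fin (p ^ 2))))
      (f : P →* ↥(W : Subgroup (Equiv.Perm (Fin (p ^ 2))))), Function.Surjective f := by
  classical
  have hp0 := hp.out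
  obtain ⟨y, hy⟩ : ∃ y, y ∉ Q := by
    by_contra! h
    exact hp0.one_lt.ne' (hQ ▸ Subgroup.index_eq_one.2 ((Subgroup.eq_top_iff' Q).2 h))
  have hcard : Nat.card (P ⧸ Q) = p := hQ
  have hord : orderOf (y : P ⧸ Q) = p := by
    rcases (Nat.dvd_prime hp0).1 (hcard ▸ orderOf_dvd_natCard (y : P ⧸ Q)) with h | h
    · exact absurd ((QuotientGroup.eq_one_iff y).1 (orderOf_eq_one_iff.1 h)) hy
    · exact h
  let e : ZMod p → P ⧸ Q := fun i => (y : P ⧸ Q) ^ i.val
  have he : Function.Bijective e := by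
    refine (Fintype.bijective_iff_injective_and_card e).2 ⟨fun i j h => ?_, ?_⟩
    · exact ZMod.val_injective p (pow_injOn_Iio_orderOf (x := (y : P ⧸ Q))
        (Set.mem_Iio.2 (hord.symm ▸ i.val_lt)) (Set.mem_Iio.2 (hord.symm ▸ j.val_lt)) h)
    · rw [ZMod.card, ← Nat.card_eq_fintype_card, hcard]
  have heq : ∀ i j : ZMod p, ((y ^ i.val * y ^ j.val : P) : P ⧸ Q) = (y ^ (i + j).val : P) := by
    intro i j
    rw [← pow_add, QuotientGroup.mk_pow, QuotientGroup.mk_pow, ← pow_mod_orderOf, hord, ZMod.val_add]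
  let a : Q → ZMod p → ZMod p := fun q i => Multiplicative.toAdd (ν (cj Q (y ^ i.val) q))
  let u : Q → CycAlg p := fun q => ∑ i, AddMonoidAlgebra.single i (a q i)
  have ha_mul : ∀ q r, a (q * r) = a q + a r := fun q r => funext fun i => by
    simp [a, cj_mul, map_mul]
  have hu_mul : ∀ q r, u (q * r) = u q + u r := fun q r => by
    simp [u, ha_mul, AddMonoidAlgebra.single_add, Finset.sum_add_distrib]
  have hu_one : u 1 = 0 := by
    have h := hu_mul 1 1
    rw [one_mul] at h
    exact left_eq_add.1 h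
  have hu_pow : ∀ q (n : ℕ), u (q ^ n) = n • u q := fun q n => by
    induction n with
    | zero => rw [pow_zero, zero_nsmul, hu_one]
    | succ n ih => rw [pow_succ, hu_mul, ih, succ_nsmul]
  -- the image is stable under multiplication by monomials
  have hshift : ∀ q (g : ZMod p), ∃ r, u q * AddMonoidAlgebra.single g 1 = u r := by
    intro q g
    refine ⟨cj Q (y ^ (-g).val) q, ?_⟩
    simp only [u, Finset.sum_mul, AddMonoidAlgebra.single_mul_single, mul_one]
    refine Fintype.sum_equiv (Equiv.addRight g) _ _ fun i => ?_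
    simp only [Equiv.coe_addRight]
    congr 1
    simp only [a, cj_cj]
    refine congrArg _ (nu_cj_congr Q ν ?_ q)
    rw [heq, show -g + (i + g) = i by ring]
  have hideal : ∀ q (v : CycAlg p), ∃ r, u q * v = u r := by
    intro q v
    induction v using AddMonoidAlgebra.induction_linear with
    | zero => exact ⟨1, by rw [mul_zero, hu_one]⟩
    | add v w hv hw =>
      obtain ⟨r, hr⟩ := hv
      obtain ⟨s, hs⟩ := hw
      exact ⟨r * s, by rw [mul_add, hr, hs, hu_mul]⟩
    | single g c =>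
      obtain ⟨r, hr⟩ := hshift q g
      refine ⟨r ^ c.val, ?_⟩
      rw [hu_pow, ← hr, ← mul_smul_comm, AddMonoidAlgebra.smul_single, nsmul_eq_mul, mul_one,
        ZMod.natCast_zmod_val]
  -- `u z` is a unit
  have haug : (∑ i, a z i) ≠ 0 := by
    intro h
    refine hz ?_
    have h2 : (∏ i : ZMod p, ν (cj Q (y ^ i.val) z)) = 1 := by
      refine Multiplicative.toAdd.injective ?_
      rw [toAdd_prod]
      exact h
    rw [← h2]
    refine (Fintype.prod_bijective e he _ _ fun i => nu_cj_congr Q ν ?_ z).symm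
    simp [e]
  have huniv : ∀ w : CycAlg p, ∃ r, u r = w := by
    intro w
    obtain ⟨r, hr⟩ := hideal z
      (u z ^ (p - 1) * AddMonoidAlgebra.single 0 (∑ i, a z i)⁻¹ * w)
    refine ⟨r, ?_⟩
    have hinv : (∑ i, a z i) * (∑ i, a z i)⁻¹ = (1 : ZMod p) := by
      exact mul_inv_cancel₀ haug
    rw [← hr, ← mul_assoc, ← mul_assoc, ← pow_succ', Nat.sub_add_cancel hp0.pos,
      sum_single_pow_char, AddMonoidAlgebra.single_mul_single, zero_add, hinv]
    exact one_mul w
  have hcoeff : ∀ q i, (u q).coeff i = a q i := fun q i => by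
    simp [u, AddMonoidAlgebra.coeff_sum, Finsupp.finsetSum_apply, Finsupp.single_apply]
  have ha_surj : ∀ b : ZMod p → ZMod p, ∃ q, a q = b := fun b => by
    obtain ⟨q, hq⟩ := huniv (∑ i, AddMonoidAlgebra.single i (b i))
    refine ⟨q, funext fun i => ?_⟩
    rw [← hcoeff, hq]
    simp [AddMonoidAlgebra.coeff_sum, Finsupp.finsetSum_apply, Finsupp.single_apply]
  let Ψ : Q →* Multiplicative (ZMod p → ZMod p) :=
    MonoidHom.mk' (fun q => Multiplicative.ofAdd (a q)) fun q r => by rw [ha_mul]; rfl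
  have hΨ : Function.Surjective Ψ := fun b => (ha_surj b.toAdd).imp fun q hq => by
    show Multiplicative.ofAdd (a q) = b
    rw [hq]; rfl
  have hΨidx : Ψ.ker.index = p ^ p := by
    rw [Subgroup.index_ker, MonoidHom.range_eq_top.2 hΨ, Subgroup.card_top,
      Nat.card_congr Multiplicative.toAdd, Nat.card_fun, Nat.card_zmod]
  have hνs : Function.Surjective ν := by
    intro c
    obtain ⟨q, hq⟩ := ha_surj fun _ => c.toAdd
    exact ⟨_, Multiplicative.toAdd.injective (congrFun hq 0)⟩
  -- the permutation representation on the cosets of `ker ν`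
  let K : Subgroup P := ν.ker.map Q.subtype
  have hK : K.index = p ^ 2 := by
    rw [Subgroup.index_map_subtype, Subgroup.index_ker, MonoidHom.range_eq_top.2 hνs,
      Subgroup.card_top, Nat.card_congr Multiplicative.toAdd, Nat.card_zmod, hQ, pow_two]
  have : Finite (P ⧸ K) := inferInstance
  obtain ⟨E⟩ : Nonempty (P ⧸ K ≃ Fin (p ^ 2)) := ⟨Finite.equivFinOfCardEq hK⟩
  let f₀ : P →* Equiv.Perm (Fin (p ^ 2)) :=
    (E.permCongrHom.toMonoidHom).comp (MulAction.toPermHom P (P ⧸ K))
  have hker : f₀.ker ≤ Ψ.ker.map Q.subtype := by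
    intro g hg
    have hg1 : ∀ c : P ⧸ K, g • c = c := by
      intro c
      have h1 : MulAction.toPermHom P (P ⧸ K) g = 1 :=
        E.permCongrHom.injective (by rw [map_one]; exact hg)
      exact congrArg (fun σ : Equiv.Perm (P ⧸ K) => σ c) h1
    have hmem : ∀ s : P, s⁻¹ * g * s ∈ K := fun s => by
      have h1 : ((g * s : P) : P ⧸ K) = (s : P ⧸ K) := hg1 (s : P ⧸ K)
      have h2 := QuotientGroup.eq.1 h1.symm
      rwa [← mul_assoc] at h2
    have hgQ : g ∈ Q := by
      obtain ⟨q, -, hq⟩ := hmem 1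
      have hq' : (q : P) = g := by simpa using hq
      exact hq' ▸ q.2
    refine ⟨⟨g, hgQ⟩, ?_, rfl⟩
    refine congrArg Multiplicative.ofAdd (funext fun i => ?_)
    obtain ⟨q, hq, hqe⟩ := hmem (y ^ i.val)
    have e2 : cj Q (y ^ i.val) ⟨g, hgQ⟩ = q := Subtype.ext hqe.symm
    simp only [a, e2, MonoidHom.mem_ker.1 hq]
    rfl
  obtain ⟨W, hW⟩ := ((hP.to_subgroup ⊤).map f₀).exists_le_sylow
  rw [← MonoidHom.range_eq_map] at hW
  refine ⟨W, f₀.codRestrict _ fun g => hW ⟨g, rfl⟩, ?_⟩
  have hWcard : Nat.card (W : Subgroup (Equiv.Perm (Fin (p ^ 2)))) = p ^ (p + 1) := by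
    rw [W.card_eq_multiplicity, Nat.card_eq_fintype_card, Fintype.card_perm, Fintype.card_fin,
      factorization_factorial_sq]
  have hle : p ^ (p + 1) ≤ Nat.card f₀.range := by
    rw [← Subgroup.index_ker]
    refine le_trans ?_ (Nat.le_of_dvd (Nat.pos_of_ne_zero Subgroup.index_ne_zero_of_finite)
      (Subgroup.index_dvd_of_le hker))
    rw [Subgroup.index_map_subtype, hΨidx, hQ, pow_succ]
  have heqr : f₀.range = (W : Subgroup (Equiv.Perm (Fin (p ^ 2)))) :=
    Subgroup.eq_of_le_of_card_ge hW (hWcard ▸ hle)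
  rintro ⟨w, hw⟩
  rw [← heqr] at hw
  obtain ⟨g, rfl⟩ := hw
  exact ⟨g, rfl⟩

end CfsgLib.Yoshida
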